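import Groth.Agent.SBAut.Split
import Mathlib.Algebra.Central.Defs

/-!
# Natural automorphisms of the left ideal functor are right multiplications
-/

universe u

open Matrix
open scoped TensorProduct

noncomputable section

namespace Groth.Agent.SBAut

variable {k : Type u} [Field k] {A : Type u} [Ring A] [Algebra k A] {K : Type u} [Field K] [Algebra k K]
  {n : ℕ}

/-- A natural transformation of the left ideal functor. -/
structure SBNat (k : Type u) [Field k] (A : Type u) [Ring A] [Algebra k A] (c : ℕ) where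
  /-- the map -/
  app : ∀ (R : Type u) [CommRing R] [Algebra k R], BrSev.SBSet k A c R → BrSev.SBSet k A c R
  nat : ∀ (R S : Type u) [CommRing R] [Algebra k R] [CommRing S] [Algebra k S] (φ : R →ₐ[k] S)
    (N : BrSev.SBSet k A c R), app S (sbMap φ N) = sbMap φ (app R N)

/-- The induced algebra structure over the base. -/
abbrev baseAlg (R : Type u) [CommRing R] [Algebra K R] : Algebra k R :=
  ((algebraMap K R).comp (algebraMap k K)).toAlgebra

theorem baseAlg_tower (R : Type u) [CommRing R] [Algebra K R] :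
    letI := baseAlg (k := k) (K := K) R; IsScalarTower k K R :=
  letI := baseAlg (k := k) (K := K) R; IsScalarTower.of_algebraMap_eq fun _ => rfl

variable (Φ : K ⊗[k] A ≃ₐ[K] Matrix (Fin n) (Fin n) K) (hA : Module.finrank k A = n * n) (hn : 0 < n)

open Classical in
/-- The map on unimodular vectors induced by a natural transformation. -/
def SBNat.onVec (η : SBNat k A (n * n - n)) (R : Type u) [CommRing R] [IsLocalRing R] [Algebra k R] [Algebra K R]
    [IsScalarTower k K R] (v : Fin n → R) : Fin n → R :=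
  if hv : IsUni v then (exists_vecPt Φ hA hn (η.app R (vecPt Φ hA hn v hv))).choose else v

theorem SBNat.onVec_spec (η : SBNat k A (n * n - n)) (R : Type u) [CommRing R] [IsLocalRing R] [Algebra k R]
    [Algebra K R] [IsScalarTower k K R] (v : Fin n → R) (hv : IsUni v) :
    ∃ h : IsUni (η.onVec Φ hA hn R v),
      vecPt Φ hA hn (η.onVec Φ hA hn R v) h = η.app R (vecPt Φ hA hn v hv) := by
  rw [SBNat.onVec, dif_pos hv]
  exact (exists_vecPt Φ hA hn (η.app R (vecPt Φ hA hn v hv))).choose_spec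

/-- The natural map on vectors. -/
def SBNat.toNatMap (η : SBNat k A (n * n - n)) : NatMap K n where
  app R _ _ _ v :=
    letI := baseAlg (k := k) (K := K) R
    haveI := baseAlg_tower (k := k) (K := K) R
    η.onVec Φ hA hn R v
  uni R _ _ _ v hv :=
    letI := baseAlg (k := k) (K := K) R
    haveI := baseAlg_tower (k := k) (K := K) R
    (η.onVec_spec Φ hA hn R v hv).1
  rel R _ _ _ v v' hv hv' h := by
    letI := baseAlg (k := k) (K := K) R
    haveI := baseAlg_tower (k := k) (K := K) R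
    obtain ⟨h1, e1⟩ := η.onVec_spec Φ hA hn R v hv
    obtain ⟨h2, e2⟩ := η.onVec_spec Φ hA hn R v' hv'
    rw [← vecPt_eq_iff Φ hA hn h1 h2, e1, e2, (vecPt_eq_iff Φ hA hn hv hv').mpr h]
  nat R S _ _ _ _ _ _ φ v hv := by
    letI := baseAlg (k := k) (K := K) R
    haveI := baseAlg_tower (k := k) (K := K) R
    letI := baseAlg (k := k) (K := K) S
    haveI := baseAlg_tower (k := k) (K := K) S
    obtain ⟨h1, e1⟩ := η.onVec_spec Φ hA hn R v hv
    obtain ⟨h2, e2⟩ := η.onVec_spec Φ hA hn S (φ ∘ v) (hv.map φ)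
    rw [← vecPt_eq_iff Φ hA hn h2 (h1.map φ), e2, ← sbMap_vecPt Φ hA hn φ h1, e1, ← sbMap_vecPt Φ hA hn φ hv,
      η.nat]

/-- A natural transformation with a left inverse is right multiplication by a unit over the splitting field. -/
theorem exists_unit [IsAlgClosed K] (η η' : SBNat k A (n * n - n))
    (hinv : ∀ (R : Type u) [CommRing R] [Algebra k R] (N : BrSev.SBSet k A (n * n - n) R), η'.app R (η.app R N) = N)
    (hA : Module.finrank k A = n * n) (hn : 0 < n) (Φ : K ⊗[k] A ≃ₐ[K] Matrix (Fin n) (Fin n) K) :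
    ∃ w : (K ⊗[k] A)ˣ, ∀ (R : Type u) [CommRing R] [IsLocalRing R] [Algebra k R] [Algebra K R]
      [IsScalarTower k K R] (N : BrSev.SBSet k A (n * n - n) R),
      η.app R N = mulRight N (Units.map ((bc (A := A) (IsScalarTower.toAlgHom k K R)) : K ⊗[k] A →* R ⊗[k] A) w) := by
  obtain ⟨M, hM, hG⟩ := exists_matrix (η.toNatMap Φ hA hn) (η'.toNatMap Φ hA hn) fun R _ _ _ v hv => by
    letI := baseAlg (k := k) (K := K) R
    haveI := baseAlg_tower (k := k) (K := K) R
    obtain ⟨h1, e1⟩ := η.onVec_spec Φ hA hn R v hv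
    obtain ⟨h2, e2⟩ := η'.onVec_spec Φ hA hn R _ h1
    refine (vecPt_eq_iff Φ hA hn h2 hv).mp ?_
    rw [e2, e1, hinv]
  obtain ⟨Mu, rfl⟩ := (Matrix.isUnit_iff_isUnit_det M).mpr hM
  refine ⟨Units.map (Φ.symm : Matrix (Fin n) (Fin n) K →* K ⊗[k] A) Mu, ?_⟩
  intro R _ _ iR _ hT N
  have hiR : iR = baseAlg (k := k) (K := K) R :=
    Algebra.algebra_ext _ _ fun c => @IsScalarTower.algebraMap_apply k K R _ _ _ _ _ iR hT c
  subst hiR
  letI := baseAlg (k := k) (K := K) R
  obtain ⟨v, hv, rfl⟩ := exists_vecPt Φ hA hn N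
  obtain ⟨h1, e1⟩ := η.onVec_spec Φ hA hn R v hv
  set y := Units.map ((bc (A := A) (IsScalarTower.toAlgHom k K R)) : K ⊗[k] A →* R ⊗[k] A)
    (Units.map (Φ.symm : Matrix (Fin n) (Fin n) K →* K ⊗[k] A) Mu)
  obtain ⟨h2, e2⟩ := vecPt_mulRight Φ hA hn hv y
  rw [e2, ← e1, vecPt_eq_iff]
  have hy : splitHom Φ R (y : R ⊗[k] A) = (Mu : Matrix (Fin n) (Fin n) K).map (algebraMap K R) := by
    simp [y, splitHom_bc]
  rw [hy]
  exact hG R v hv

include hA hn in
theorem exists_finite : Module.Finite k A := Module.finite_of_finrank_pos (by rw [hA]; positivity)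

theorem tmul_one_eq_one_tmul {c : K} (h : c ⊗ₜ[k] (1 : K) = (1 : K) ⊗ₜ[k] c) : c ∈ Set.range (algebraMap k K) := by
  obtain ⟨f, hf⟩ := Module.Projective.exists_dual_eq_one k (one_ne_zero : (1 : K) ≠ 0)
  have h' := congrArg (fun t => TensorProduct.rid k K (f.lTensor K t)) h
  refine ⟨f c, ?_⟩
  simpa [hf, Algebra.smul_def] using h'.symm

theorem eq_of_forall_localization {B : Type u} [CommRing B] {x y : B}
    (h : ∀ q : Ideal B, [q.IsPrime] → algebraMap B (Localization.AtPrime q) x = algebraMap B (Localization.AtPrime q) y) :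
    x = y := by
  rw [← sub_eq_zero]
  by_contra hne
  let I : Ideal B := LinearMap.ker (LinearMap.toSpanSingleton B B (x - y))
  have hI : I ≠ ⊤ := fun hI => hne (by
    have h1 : (1 : B) ∈ I := by rw [hI]; trivial
    simpa [I] using h1)
  obtain ⟨q, hq, hle⟩ := Ideal.exists_le_maximal I hI
  have h2 : algebraMap B (Localization.AtPrime q) (x - y) = 0 := by rw [map_sub, h q, sub_self]
  obtain ⟨⟨m, hm⟩, hm0⟩ := (IsLocalization.map_eq_zero_iff q.primeCompl _ _).mp h2
  exact hm (hle (show m ∈ I from hm0))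

/-- A natural transformation with a left inverse is right multiplication by a unit. -/
theorem exists_mem [Algebra.IsCentral k A] [IsSimpleRing A] [IsAlgClosed K] (η η' : SBNat k A (n * n - n))
    (hinv : ∀ (R : Type u) [CommRing R] [Algebra k R] (N : BrSev.SBSet k A (n * n - n) R), η'.app R (η.app R N) = N)
    (hA : Module.finrank k A = n * n) (hn : 0 < n) (Φ : K ⊗[k] A ≃ₐ[K] Matrix (Fin n) (Fin n) K) :
    ∃ a : Aˣ, ∀ (R : Type u) [CommRing R] [IsLocalRing R] [Algebra k R] [Algebra K R]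
      [IsScalarTower k K R] (N : BrSev.SBSet k A (n * n - n) R),
      η.app R N = mulRight N (Units.map ((Algebra.TensorProduct.includeRight : A →ₐ[k] R ⊗[k] A) : A →* R ⊗[k] A) a) := by
  classical
  haveI := exists_finite hA hn
  obtain ⟨w, hw⟩ := exists_unit η η' hinv hA hn Φ
  let b := Module.finBasisOfFinrankEq k A hA
  let bK := Algebra.TensorProduct.basis K b
  haveI : Nontrivial A := IsSimpleRing.instNontrivial
  haveI : Nonempty (Fin n) := ⟨⟨0, hn⟩⟩
  haveI : Nontrivial (Matrix (Fin n) (Fin n) K) := inferInstance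
  haveI : Nontrivial (K ⊗[k] A) := Φ.toRingEquiv.toEquiv.nontrivial
  obtain ⟨i0, hi0⟩ : ∃ i, bK.repr (w : K ⊗[k] A) i ≠ 0 := by
    by_contra! h
    exact w.ne_zero (bK.repr.injective (Finsupp.ext fun i => by simp [h i]))
  set t := bK.repr (w : K ⊗[k] A) i0
  let w' : (K ⊗[k] A)ˣ := Units.map (algebraMap K (K ⊗[k] A) : K →* K ⊗[k] A) (Units.mk0 t hi0)⁻¹ * w
  have hw'v : (w' : K ⊗[k] A) = t⁻¹ • (w : K ⊗[k] A) := by simp [w', Algebra.smul_def]
  have hw' : ∀ (R : Type u) [CommRing R] [IsLocalRing R] [Algebra k R] [Algebra K R] [IsScalarTower k K R]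
      (N : BrSev.SBSet k A (n * n - n) R),
      η.app R N = mulRight N (Units.map ((bc (A := A) (IsScalarTower.toAlgHom k K R)) : K ⊗[k] A →* R ⊗[k] A) w') := by
    intro R _ _ _ _ _ N
    rw [hw R N]
    simp only [w', map_mul]
    rw [← mulRight_mulRight]
    congr 1
    exact (mulRight_scalar N _ (algebraMap K R t⁻¹) (by simp [Algebra.TensorProduct.algebraMap_apply])).symm
  set c : Fin (n * n) → K := fun i => bK.repr (w' : K ⊗[k] A) i with hc
  have hc0 : c i0 = 1 := by simp [hc, hw'v, t, hi0]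
  have hcoef : ∀ (R : Type u) [CommRing R] [Algebra k R] (φ : K →ₐ[k] R) (x : K ⊗[k] A) i,
      (Algebra.TensorProduct.basis R b).repr (bc φ x) i = φ (bK.repr x i) := by
    intro R _ _ φ x i
    induction x using TensorProduct.induction_on with
    | zero => simp
    | tmul s a => simp [bK, Algebra.smul_def, Algebra.commutes]
    | add x y hx hy => simp [hx, hy]
  have act : ∀ (R : Type u) [CommRing R] [IsLocalRing R] [Algebra k R] (φ : K →ₐ[k] R)
      (N : BrSev.SBSet k A (n * n - n) R),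
      η.app R N = mulRight N (Units.map ((bc (A := A) φ) : K ⊗[k] A →* R ⊗[k] A) w') := by
    intro R _ _ _ φ N
    letI := φ.toAlgebra
    haveI : IsScalarTower k K R := IsScalarTower.of_algebraMap_eq fun z => (φ.commutes z).symm
    exact hw' R N
  have hscal : ∀ (R : Type u) [CommRing R] [IsLocalRing R] [Algebra k R] (_φ : K →ₐ[k] R) (y : (R ⊗[k] A)ˣ),
      (∀ N : BrSev.SBSet k A (n * n - n) R, mulRight N y = N) →
        ∃ r : R, (y : R ⊗[k] A) = algebraMap R (R ⊗[k] A) r := by
    intro R _ _ _ φ y hy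
    letI := φ.toAlgebra
    haveI : IsScalarTower k K R := IsScalarTower.of_algebraMap_eq fun z => (φ.commutes z).symm
    exact scalar_of_forall_mulRight y hA hn hy Φ
  have hdesc : ∀ i, c i ⊗ₜ[k] (1 : K) = (1 : K) ⊗ₜ[k] c i := by
    intro i
    refine eq_of_forall_localization fun q _ => ?_
    let R := Localization.AtPrime q
    let φ₁ : K →ₐ[k] R := (IsScalarTower.toAlgHom k (K ⊗[k] K) R).comp Algebra.TensorProduct.includeLeft
    let φ₂ : K →ₐ[k] R := (IsScalarTower.toAlgHom k (K ⊗[k] K) R).comp Algebra.TensorProduct.includeRight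
    let y₁ := Units.map ((bc (A := A) φ₁) : K ⊗[k] A →* R ⊗[k] A) w'
    let y₂ := Units.map ((bc (A := A) φ₂) : K ⊗[k] A →* R ⊗[k] A) w'
    have htriv : ∀ N : BrSev.SBSet k A (n * n - n) R, mulRight N (y₁ * y₂⁻¹) = N := fun N => by
      rw [← mulRight_mulRight, ← act R φ₁, act R φ₂, mulRight_mulRight, mul_inv_cancel, mulRight_one]
    obtain ⟨r, hr⟩ := hscal R φ₁ _ htriv
    have h12 : bc φ₁ (w' : K ⊗[k] A) = r • bc φ₂ (w' : K ⊗[k] A) := by
      calc bc φ₁ (w' : K ⊗[k] A) = ((y₁ * y₂⁻¹ * y₂ : (R ⊗[k] A)ˣ) : R ⊗[k] A) := by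
            rw [inv_mul_cancel_right]; rfl
        _ = algebraMap R _ r * (y₂ : R ⊗[k] A) := by rw [Units.val_mul, hr]
        _ = _ := (Algebra.smul_def _ _).symm
    have hrep : ∀ l, φ₁ (c l) = r * φ₂ (c l) := fun l => by
      have := congrArg (fun z => (Algebra.TensorProduct.basis R b).repr z l) h12
      simpa [hcoef, map_smul] using this
    have hr1 : r = 1 := by simpa [hc0] using (hrep i0).symm
    have := hrep i
    rw [hr1, one_mul] at this
    exact this
  choose d hd using fun i => tmul_one_eq_one_tmul (hdesc i)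
  let a : A := ∑ i, d i • b i
  have ha : ((1 : K) ⊗ₜ[k] a) = (w' : K ⊗[k] A) := by
    rw [← bK.sum_repr (w' : K ⊗[k] A), TensorProduct.tmul_sum]
    refine Finset.sum_congr rfl fun i _ => ?_
    show (1 : K) ⊗ₜ[k] (d i • b i) = c i • bK i
    rw [← hd i, TensorProduct.tmul_smul]
    simp [bK, TensorProduct.smul_tmul', Algebra.smul_def]
  have hu : IsUnit a := by
    have hinj : Function.Injective (Algebra.TensorProduct.includeRight : A →ₐ[k] K ⊗[k] A) :=
      Algebra.TensorProduct.includeRight_injective (FaithfulSMul.algebraMap_injective k K)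
    have hl : Function.Injective (LinearMap.mulLeft k a) := by
      intro x y hxy
      refine hinj (w'.isUnit.mul_left_cancel ?_)
      rw [← ha]
      have := congrArg (Algebra.TensorProduct.includeRight : A →ₐ[k] K ⊗[k] A) hxy
      simpa using this
    obtain ⟨a', ha'⟩ := (LinearMap.injective_iff_surjective.mp hl) 1
    exact ⟨⟨a, a', ha', hl (by
      show a * (a' * a) = a * 1
      rw [← mul_assoc, show a * a' = 1 from ha', one_mul, mul_one])⟩, rfl⟩
  obtain ⟨au, hau⟩ := hu
  refine ⟨au, fun R _ _ _ _ _ N => ?_⟩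
  rw [hw' R N]
  congr 1
  ext
  simp [← ha, hau]

end Groth.Agent.SBAut
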