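import Groth.Agent.SBAut.Yoneda
import Groth.Agent.SBAut.Natural
import Groth.Agent.CSALib.BaseChange
import Groth.Agent.CSALib.Splitting
import Mathlib.CategoryTheory.Endomorphism
import Mathlib.CategoryTheory.Comma.Over.Basic
import Mathlib.FieldTheory.IsAlgClosed.AlgebraicClosure

/-!
# The automorphism group of a Severi–Brauer variety
-/

universe u

open CategoryTheory AlgebraicGeometry Matrix
open scoped TensorProduct

noncomputable section

namespace Groth.Agent.SBAut

variable {k : Type u} [Field k] {A : Type u} [Ring A] [Algebra k A] {c : ℕ}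
  {X : Scheme.{u}} {f : X ⟶ Spec (CommRingCat.of k)}

/-- Constant units. -/
def constUnit (R : Type u) [CommRing R] [Algebra k R] : Aˣ →* (R ⊗[k] A)ˣ :=
  Units.map ((Algebra.TensorProduct.includeRight : A →ₐ[k] R ⊗[k] A) : A →* R ⊗[k] A)

theorem bc_constUnit {R S : Type u} [CommRing R] [Algebra k R] [CommRing S] [Algebra k S] (φ : R →ₐ[k] S) (u : Aˣ) :
    Units.map ((bc (A := A) φ) : R ⊗[k] A →* S ⊗[k] A) (constUnit R u) = constUnit S u := by
  ext
  simp [constUnit]

variable (s : BrSev.SBStr k A c f)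

theorem bij_map {R S : Type u} [CommRing R] [Algebra k R] [CommRing S] [Algebra k S] (φ : R →ₐ[k] S)
    (g : BrSev.Pts f R) : s.bij S (BrSev.Pts.map f φ g) = sbMap φ (s.bij R g) :=
  sbSet_ext (s.natural R S φ g)

theorem bij_symm_map {R S : Type u} [CommRing R] [Algebra k R] [CommRing S] [Algebra k S] (φ : R →ₐ[k] S)
    (N : BrSev.SBSet k A c R) : (s.bij S).symm (sbMap φ N) = BrSev.Pts.map f φ ((s.bij R).symm N) := by
  rw [Equiv.symm_apply_eq, bij_map, Equiv.apply_symm_apply]

theorem exists_actHom (u : Aˣ) :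
    ∃ h : X ⟶ X, h ≫ f = f ∧ ∀ (R : Type u) [CommRing R] [Algebra k R] (g : BrSev.Pts f R),
      g.1 ≫ h = ((s.bij R).symm (mulRight (s.bij R g) (constUnit R u⁻¹))).1 :=
  exists_hom_of_natural f (fun R _ _ g => (s.bij R).symm (mulRight (s.bij R g) (constUnit R u⁻¹)))
    fun R S _ _ _ _ φ g => by
      rw [bij_map, ← bij_symm_map, sbMap_mulRight, bc_constUnit]

/-- The endomorphism given by a unit. -/
def actHom (u : Aˣ) : End (Over.mk f) :=
  Over.homMk (exists_actHom s u).choose (exists_actHom s u).choose_spec.1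

theorem actHom_spec (u : Aˣ) (R : Type u) [CommRing R] [Algebra k R] (g : BrSev.Pts f R) :
    g.1 ≫ (actHom s u).left = ((s.bij R).symm (mulRight (s.bij R g) (constUnit R u⁻¹))).1 :=
  (exists_actHom s u).choose_spec.2 R g

theorem end_ext {a b : End (Over.mk f)}
    (h : ∀ (R : Type u) [CommRing R] [Algebra k R] (g : BrSev.Pts f R), g.1 ≫ a.left = g.1 ≫ b.left) : a = b := by
  refine Over.OverMorphism.ext (hom_ext_fromSpecStalk (X := X) (Y := X) a.left b.left fun x => ?_)
  exact @h (X.presheaf.stalk x : Type u) _ (algOf f (X.fromSpecStalk x)) ⟨X.fromSpecStalk x, algOf_spec f _⟩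

/-- The action of units. -/
def act : Aˣ →* End (Over.mk f) where
  toFun := actHom s
  map_one' := end_ext fun R _ _ g => by
    rw [actHom_spec, inv_one, map_one, mulRight_one, Equiv.symm_apply_apply]
    exact (Category.comp_id _).symm
  map_mul' u v := end_ext fun R _ _ g => by
    rw [actHom_spec, CategoryTheory.End.mul_def]
    show _ = g.1 ≫ (actHom s v).left ≫ (actHom s u).left
    rw [← Category.assoc, actHom_spec, actHom_spec, Equiv.apply_symm_apply, mulRight_mulRight, ← map_mul, _root_.mul_inv_rev]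

/-- The action of units by automorphisms. -/
def actAut : Aˣ →* Aut (Over.mk f) :=
  (Aut.unitsEndEquivAut (Over.mk f)).toMonoidHom.comp (act s).toHomUnits

theorem actAut_hom (u : Aˣ) : (actAut s u).hom = actHom s u := rfl

/-- A natural transformation from an endomorphism. -/
def natOfEnd (a : End (Over.mk f)) : SBNat k A c where
  app R _ _ N := s.bij R ⟨((s.bij R).symm N).1 ≫ a.left, by
    rw [Category.assoc, show a.left ≫ f = f from Over.w a, ((s.bij R).symm N).2]⟩
  nat R S _ _ _ _ φ N := by
    rw [← bij_map]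
    congr 1
    refine Subtype.ext ?_
    show ((s.bij S).symm (sbMap φ N)).1 ≫ a.left = _
    rw [bij_symm_map]
    exact Category.assoc _ _ _

variable {n : ℕ}

theorem exists_splitting [Algebra.IsCentral k A] [IsSimpleRing A] (hA : Module.finrank k A = n * n) (hn : 0 < n) :
    Nonempty (AlgebraicClosure k ⊗[k] A ≃ₐ[AlgebraicClosure k] Matrix (Fin n) (Fin n) (AlgebraicClosure k)) := by
  haveI := exists_finite (k := k) (A := A) hA hn
  haveI := CSALib.isSimpleRing_baseChange (k := k) (A := A) (AlgebraicClosure k)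
  haveI := CSALib.isCentral_baseChange (k := k) (A := A) (AlgebraicClosure k)
  obtain ⟨m, hm, ⟨e⟩⟩ := CSALib.exists_algEquiv_matrix_of_isSepClosed (AlgebraicClosure k) (AlgebraicClosure k ⊗[k] A)
  have h := e.toLinearEquiv.finrank_eq
  rw [Module.finrank_baseChange, hA, Module.finrank_matrix, Module.finrank_self, mul_one, Fintype.card_fin] at h
  obtain rfl : n = m := by nlinarith
  exact ⟨e⟩

variable (s' : BrSev.SBStr k A (n * n - n) f)

theorem actAut_surjective [Algebra.IsCentral k A] [IsSimpleRing A] (hA : Module.finrank k A = n * n) (hn : 0 < n) :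
    Function.Surjective (actAut s') := by
  intro g
  obtain ⟨Φ⟩ := exists_splitting hA hn
  obtain ⟨a, ha⟩ := exists_mem (natOfEnd s' g.hom) (natOfEnd s' g.inv) (fun R _ _ N => by
    simp only [natOfEnd, Equiv.symm_apply_apply, Category.assoc]
    conv_rhs => rw [← (s'.bij R).apply_symm_apply N]
    congr 1
    refine Subtype.ext ?_
    show ((s'.bij R).symm N).1 ≫ g.hom.left ≫ g.inv.left = _
    rw [← Over.comp_left, g.hom_inv_id, Over.id_left]
    exact Category.comp_id _) hA hn Φ
  refine ⟨a⁻¹, Aut.ext ?_⟩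
  rw [actAut_hom]
  refine Over.OverMorphism.ext ?_
  refine hom_ext_local f _ _ (Over.w _) (Over.w g.hom) (AlgebraicClosure k) fun R _ _ _ _ _ pt => ?_
  rw [actHom_spec, inv_inv]
  have h := ha R (s'.bij R pt)
  simp only [natOfEnd, Equiv.symm_apply_apply] at h
  have h2 := congrArg (s'.bij R).symm h
  rw [Equiv.symm_apply_apply] at h2
  exact (congrArg Subtype.val h2).symm

theorem mem_ker_iff [Algebra.IsCentral k A] [IsSimpleRing A] (hA : Module.finrank k A = n * n) (hn : 0 < n) (u : Aˣ) :
    u ∈ (actAut s').ker ↔ u ∈ (Units.map (algebraMap k A : k →* A)).range := by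
  constructor
  · intro hu
    have h1 : actHom s' u = (Iso.refl (Over.mk f)).hom := by
      rw [← actAut_hom, MonoidHom.mem_ker.mp hu]; rfl
    let K := AlgebraicClosure k
    have htriv : ∀ N : BrSev.SBSet k A (n * n - n) K, mulRight N (constUnit K u⁻¹) = N := by
      intro N
      have h := actHom_spec s' u K ((s'.bij K).symm N)
      rw [h1, Equiv.apply_symm_apply] at h
      have h' : (s'.bij K).symm N = (s'.bij K).symm (mulRight N (constUnit K u⁻¹)) :=
        Subtype.ext ((Category.comp_id _).symm.trans h)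
      exact ((s'.bij K).symm.injective h').symm
    obtain ⟨Φ⟩ := exists_splitting hA hn
    obtain ⟨r, hr⟩ := scalar_of_forall_mulRight (R := K) _ hA hn htriv Φ
    obtain ⟨φ, hφ⟩ := Module.Projective.exists_dual_eq_one k (show (1 : A) ≠ 0 from one_ne_zero)
    have hr' : (1 : K) ⊗ₜ[k] ((u⁻¹ : Aˣ) : A) = r ⊗ₜ[k] (1 : A) := by
      simpa [constUnit, Algebra.TensorProduct.algebraMap_apply] using hr
    have hru : r = algebraMap k K (φ ((u⁻¹ : Aˣ) : A)) := by
      have := congrArg (fun t => TensorProduct.rid k K (φ.lTensor K t)) hr'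
      simpa [hφ, Algebra.smul_def, eq_comm] using this
    have hinv : algebraMap k A (φ ((u⁻¹ : Aˣ) : A)) = ((u⁻¹ : Aˣ) : A) := by
      refine Algebra.TensorProduct.includeRight_injective (A := K) (R := k) (FaithfulSMul.algebraMap_injective k K) ?_
      show (1 : K) ⊗ₜ[k] _ = (1 : K) ⊗ₜ[k] _
      rw [hr', hru, Algebra.algebraMap_eq_smul_one, Algebra.algebraMap_eq_smul_one, TensorProduct.smul_tmul]
    have hne : φ ((u⁻¹ : Aˣ) : A) ≠ 0 := fun h0 => (u⁻¹).ne_zero (by rw [← hinv, h0, map_zero])
    refine ⟨(Units.mk0 _ hne)⁻¹, ?_⟩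
    rw [map_inv, inv_eq_iff_eq_inv]
    exact Units.ext hinv
  · rintro ⟨t, rfl⟩
    refine MonoidHom.mem_ker.mpr (Aut.ext ?_)
    rw [actAut_hom]
    refine end_ext fun R _ _ g => ?_
    rw [actHom_spec, mulRight_scalar _ _ (algebraMap k R ((t⁻¹ : kˣ) : k)), Equiv.symm_apply_apply]
    · exact (Category.comp_id _).symm
    · rw [← map_inv]
      simp [constUnit, Algebra.TensorProduct.algebraMap_apply, Algebra.algebraMap_eq_smul_one, TensorProduct.smul_tmul,
        Algebra.TensorProduct.one_def]

theorem exists_surjective_ker [Algebra.IsCentral k A] [IsSimpleRing A] (hn : 0 < n) (hA : Module.finrank k A = n * n)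
    (hX : BrSev.IsSBOf k A (n * n - n) f) :
    ∃ ξ : Aˣ →* Aut (Over.mk f), Function.Surjective ξ ∧
      ξ.ker = (Units.map (algebraMap k A : k →* A)).range :=
  ⟨actAut hX.some, actAut_surjective hX.some hA hn, SetLike.ext fun u => mem_ker_iff hX.some hA hn u⟩

end Groth.Agent.SBAut
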