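import Groth.Agent.SBAut.GlobalVec
import Groth.Agent.SBAut.Main
import Groth.Agent.SegreX.Coord
import Mathlib.AlgebraicGeometry.ProjectiveSpectrum.Proper

/-!
# A Severi–Brauer scheme over a splitting field is projective space
-/

set_option autoImplicit false
set_option backward.isDefEq.respectTransparency false
set_option backward.isDefEq.respectTransparency.types false
universe u

open CategoryTheory CategoryTheory.Limits AlgebraicGeometry
open scoped TensorProduct

noncomputable section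

namespace Groth.Agent.SBAut.ProjIso

open Groth.Agent.ProjPt HomogeneousLocalization MvPolynomial

variable {K : Type u} [Field K] {N : ℕ}

local notation "𝒫" => CohB1.polyGrading N K

section Coordinates

variable {R : Type u} [CommRing R] [Algebra K R]

/-- Evaluation at a vector. -/
abbrev ev (v : Fin (N + 1) → R) : MvPolynomial (Fin (N + 1)) K →+* R := eval₂Hom (algebraMap K R) v

theorem ev_X {v : Fin (N + 1) → R} {i : Fin (N + 1)} (h : IsUnit (v i)) : IsUnit (ev (K := K) v (X i)) := by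
  simpa using h

/-- The point of projective space with given coordinates. -/
def ppt (v : Fin (N + 1) → R) (i : Fin (N + 1)) (h : IsUnit (v i)) :
    Spec (CommRingCat.of R) ⟶ CohB1.ProjSpace N K :=
  Spec.map (CommRingCat.ofHom (coordHom 𝒫 (ev v) (ev_X h))) ≫ Proj.awayι 𝒫 (X i) (X_mem i) one_pos

theorem ppt_indep {v v' : Fin (N + 1) → R} {c : R} (hc : ∀ l, v' l = c * v l) {i j : Fin (N + 1)}
    (hi : IsUnit (v i)) (hj : IsUnit (v' j)) : ppt (K := K) v i hi = ppt v' j hj := by
  have hcu : IsUnit c := by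
    rw [hc j] at hj
    exact isUnit_of_mul_isUnit_left hj
  have hi' : IsUnit (v' i) := by rw [hc i]; exact hcu.mul hi
  have hsame : ppt (K := K) v' i hi' = ppt v i hi := by
    unfold ppt
    rw [coordHom_scale 𝒫 (ev v) (ev v') (X_mem i) c (fun d a ha =>
      eval₂Hom_scale (algebraMap K R) v v' c hc ((mem_homogeneousSubmodule _ _).1 ha)) (ev_X hi) (ev_X hi')]
  rw [← hsame]
  unfold ppt
  have hux : IsUnit (ev (K := K) v' (X i * X j)) := by rw [map_mul]; exact (ev_X hi').mul (ev_X hj)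
  rw [← coordHom_awayMap 𝒫 (ev v') (X_mem i) (X_mem j) rfl (ev_X hi') hux,
    ← coordHom_awayMap 𝒫 (ev v') (X_mem j) (X_mem i) (mul_comm _ _) (ev_X hj) hux,
    CommRingCat.ofHom_comp, CommRingCat.ofHom_comp, Spec.map_comp, Spec.map_comp, Category.assoc, Category.assoc,
    Proj.SpecMap_awayMap_awayι, Proj.SpecMap_awayMap_awayι]

theorem ppt_of_rel {v v' : Fin (N + 1) → R} (h : Rel v v') {i j : Fin (N + 1)}
    (hi : IsUnit (v i)) (hj : IsUnit (v' j)) : ppt (K := K) v i hi = ppt v' j hj := by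
  obtain ⟨t, ht⟩ := hi
  refine ppt_indep (c := v' i * (↑t⁻¹ : R)) (fun l => ?_) _ hj
  have := h i l
  rw [← ht] at this
  calc v' l = (↑t⁻¹ : R) * (↑t * v' l) := by rw [← mul_assoc, Units.inv_mul, one_mul]
    _ = (↑t⁻¹ : R) * (v l * v' i) := by rw [this]
    _ = _ := by ring

theorem comp_ppt {R' : Type u} [CommRing R'] [Algebra K R'] (φ : R →ₐ[K] R') (v : Fin (N + 1) → R)
    (i : Fin (N + 1)) (h : IsUnit (v i)) :
    Spec.map (CommRingCat.ofHom (φ : R →+* R')) ≫ ppt (K := K) v i h = ppt (⇑φ ∘ v) i (h.map φ) := by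
  unfold ppt
  rw [← Spec.map_comp_assoc, ← CommRingCat.ofHom_comp, comp_coordHom]
  congr 4
  exact MvPolynomial.ringHom_ext (by simp) (by simp)

theorem ppt_toSpec (v : Fin (N + 1) → R) (i : Fin (N + 1)) (h : IsUnit (v i)) :
    ppt (K := K) v i h ≫ CohB1.ProjSpace.toSpec N K = Spec.map (CommRingCat.ofHom (algebraMap K R)) := by
  rw [ppt, CohB1.ProjSpace.toSpec, Category.assoc, Proj.awayι_toSpecZero_assoc, ← Spec.map_comp, ← Spec.map_comp,
    ← CommRingCat.ofHom_comp, ← CommRingCat.ofHom_comp]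
  congr 2
  refine RingHom.ext fun r => ?_
  exact (coordHom_cst (ev v) i (ev_X h) r).trans (eval₂Hom_C _ _ _)

/-- Equal points have proportional coordinates. -/
theorem rel_of_ppt_eq {v v' : Fin (N + 1) → R} {i j : Fin (N + 1)} (hi : v i = 1) (hj : v' j = 1)
    (e : ppt (K := K) v i (hi ▸ isUnit_one) = ppt v' j (hj ▸ isUnit_one)) : Rel v v' := by
  let γ : CommRingCat.of R ⟶ Γ(Spec (CommRingCat.of R), ⊤) := (Scheme.ΓSpecIso (CommRingCat.of R)).inv
  have hγ : ∀ {C : Type u} [CommRing C] (u : C →+* R), Spec.map (CommRingCat.ofHom u) =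
      (Spec (CommRingCat.of R)).toSpecΓ ≫ Spec.map (CommRingCat.ofHom (γ.hom.comp u)) := by
    intro C _ u
    rw [CommRingCat.ofHom_comp, Spec.map_comp, CommRingCat.ofHom_hom]
    exact (toSpecΓ_SpecMap_ΓSpecIso_inv_assoc (CommRingCat.of R) _).symm
  obtain ⟨c, -, hc⟩ := exists_unit_of_agree 𝒫 (X_mem i) (X_mem j) _ _ e _ _
    (hγ (coordHom 𝒫 (ev v) (ev_X (hi ▸ isUnit_one)))) (hγ (coordHom 𝒫 (ev v') (ev_X (hj ▸ isUnit_one))))
  have hc' : ∀ l, γ.hom (v' l) = c * γ.hom (v l) := by
    intro l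
    have h := hc (X l) (X_mem l)
    simp only [RingHom.comp_apply] at h
    erw [coordHom_crd (ev v') j _ (by simpa using hj) l, coordHom_crd (ev v) i _ (by simpa using hi) l] at h
    simpa using h
  have hinj : Function.Injective γ.hom := (Scheme.ΓSpecIso (CommRingCat.of R)).commRingCatIsoToRingEquiv.symm.injective
  intro a b
  refine hinj ?_
  rw [map_mul, map_mul, hc', hc']
  ring

end Coordinates

/-- The chart is the point with the coordinate functions. -/
theorem awayι_eq_ppt (i : Fin (N + 1)) :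
    letI := (cst (R := K) (n := N) i).toAlgebra
    Proj.awayι 𝒫 (X i) (X_mem i) one_pos = ppt (K := K) (crd (R := K) (n := N) i) i (crd_self (R := K) (n := N) i ▸ isUnit_one) := by
  letI := (cst (R := K) (n := N) i).toAlgebra
  rw [ppt]
  conv_lhs => rw [← Category.id_comp (Proj.awayι 𝒫 (X i) (X_mem i) one_pos), ← Spec.map_id]
  congr 2
  exact (congrArg CommRingCat.ofHom (eq_coordHom (R := K) (n := N) i (RingHom.id (Away 𝒫 (X i : MvPolynomial (Fin (N + 1)) K))) (by simp [crd_self])) :)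

section Main

variable {k : Type u} [Field k] {A : Type u} [Ring A] [Algebra k A] [Algebra k K]
  (Φ : K ⊗[k] A ≃ₐ[K] Matrix (Fin (N + 1)) (Fin (N + 1)) K) (hA : Module.finrank k A = (N + 1) * (N + 1))
  {X₀ : Scheme.{u}} {f : X₀ ⟶ Spec (CommRingCat.of k)}
  (s : BrSev.SBStr k A ((N + 1) * (N + 1) - (N + 1)) f)

local notation "Y" => BrSev.bc f K

/-- The point of the original scheme under a point of the base change. -/
def toPt {R : Type u} [CommRing R] [Algebra k R] [Algebra K R] [IsScalarTower k K R]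
    (a : Spec (CommRingCat.of R) ⟶ Y) (ha : a ≫ BrSev.bcTo f K = Spec.map (CommRingCat.ofHom (algebraMap K R))) :
    BrSev.Pts f R :=
  ⟨a ≫ BrSev.proj f K, by
    rw [Category.assoc, pullback.condition, reassoc_of% ha, ← Spec.map_comp, ← CommRingCat.ofHom_comp,
      ← IsScalarTower.algebraMap_eq]⟩

/-- The coordinates of a point. -/
def IsVec {R : Type u} [CommRing R] [Algebra k R] [Algebra K R] [IsScalarTower k K R]
    (a : Spec (CommRingCat.of R) ⟶ Y) (v : Fin (N + 1) → R) : Prop :=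
  ∃ (ha : a ≫ BrSev.bcTo f K = Spec.map (CommRingCat.ofHom (algebraMap K R))) (hv : IsUni v),
    s.bij R (toPt a ha) = pPt Φ hA N.succ_pos v hv

variable {Φ hA s}

theorem IsVec.rel {R : Type u} [CommRing R] [Algebra k R] [Algebra K R] [IsScalarTower k K R]
    {a : Spec (CommRingCat.of R) ⟶ Y} {v v' : Fin (N + 1) → R} (h : IsVec Φ hA s a v) (h' : IsVec Φ hA s a v') :
    Rel v v' := by
  obtain ⟨ha, hv, e⟩ := h
  obtain ⟨ha', hv', e'⟩ := h'
  exact (pPt_eq_iff Φ hA N.succ_pos hv hv').1 (e.symm.trans e')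

variable {R S : Type u} [CommRing R] [CommRing S] [Algebra k R] [Algebra K R] [IsScalarTower k K R]
  [Algebra k S] [Algebra K S] [IsScalarTower k K S]

theorem IsVec.comp (φ : R →ₐ[K] S) {a : Spec (CommRingCat.of R) ⟶ Y} {v : Fin (N + 1) → R}
    (h : IsVec Φ hA s a v) : IsVec Φ hA s (Spec.map (CommRingCat.ofHom (φ : R →+* S)) ≫ a) (⇑φ ∘ v) := by
  obtain ⟨ha, hv, e⟩ := h
  have ha' : (Spec.map (CommRingCat.ofHom (φ : R →+* S)) ≫ a) ≫ BrSev.bcTo f K =
      Spec.map (CommRingCat.ofHom (algebraMap K S)) := by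
    rw [Category.assoc, ha, ← Spec.map_comp, ← CommRingCat.ofHom_comp, AlgHom.comp_algebraMap]
  refine ⟨ha', hv.map φ, ?_⟩
  rw [show toPt (Spec.map (CommRingCat.ofHom (φ : R →+* S)) ≫ a) ha' =
      BrSev.Pts.map f (φ.restrictScalars k) (toPt a ha) from Subtype.ext (Category.assoc _ _ _),
    bij_map, e, sbMap_pPt]

theorem IsVec.eq {a a' : Spec (CommRingCat.of R) ⟶ Y} {v v' : Fin (N + 1) → R} (h : IsVec Φ hA s a v)
    (h' : IsVec Φ hA s a' v') (hr : Rel v v') : a = a' := by
  obtain ⟨ha, hv, e⟩ := h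
  obtain ⟨ha', hv', e'⟩ := h'
  rw [(pPt_eq_iff Φ hA N.succ_pos hv hv').2 hr, ← e'] at e
  exact pullback.hom_ext (congrArg Subtype.val ((s.bij R).injective e) :) (ha.trans ha'.symm)

theorem exists_isVec (a : Spec (CommRingCat.of R) ⟶ Y)
    (ha : a ≫ BrSev.bcTo f K = Spec.map (CommRingCat.ofHom (algebraMap K R))) (P : PrimeSpectrum R) :
    ∃ r : R, r ∉ P.asIdeal ∧ ∃ (v : Fin (N + 1) → Localization.Away r) (i : Fin (N + 1)), v i = 1 ∧
      IsVec Φ hA s (Spec.map (CommRingCat.ofHom (algebraMap R (Localization.Away r))) ≫ a) v := by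
  obtain ⟨r, hr, v, i, hi, hv, e⟩ := exists_vec Φ hA N.succ_pos (s.bij R (toPt a ha)) P
  refine ⟨r, hr, v, i, hi, ?_, hv, ?_⟩
  · rw [Category.assoc, ha, ← Spec.map_comp, ← CommRingCat.ofHom_comp, ← IsScalarTower.algebraMap_eq]
  · rw [← e, ← bij_map]
    exact congrArg _ (Subtype.ext (Category.assoc _ _ _))

/-- Points with the same image in projective space are equal. -/
theorem IsVec.eq_of_ppt_eq {a a' : Spec (CommRingCat.of R) ⟶ Y} {v v' : Fin (N + 1) → R} (h : IsVec Φ hA s a v)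
    (h' : IsVec Φ hA s a' v') {i j : Fin (N + 1)} (hi : v i = 1) (hj : v' j = 1)
    (e : ppt (K := K) v i (hi ▸ isUnit_one) = ppt v' j (hj ▸ isUnit_one)) : a = a' :=
  h.eq h' (rel_of_ppt_eq hi hj e)

variable (f) in
/-- Every morphism from an affine scheme is a point for induced algebra structures. -/
theorem exists_algebras {R : Type u} [CommRing R] (a : Spec (CommRingCat.of R) ⟶ Y) :
    ∃ (_ : Algebra k R) (_ : Algebra K R), IsScalarTower k K R ∧
      a ≫ BrSev.bcTo f K = Spec.map (CommRingCat.ofHom (algebraMap K R)) := by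
  let φ := Spec.preimage (a ≫ BrSev.bcTo f K)
  letI : Algebra K R := φ.hom.toAlgebra
  letI := baseAlg (k := k) (K := K) R
  exact ⟨inferInstance, inferInstance, baseAlg_tower R, (Spec.map_preimage _).symm⟩

/-- The two coordinate points on an overlap agree. -/
theorem ppt_agree {R R' T : Type u} [CommRing R] [CommRing R'] [CommRing T] [Algebra k R] [Algebra K R]
    [IsScalarTower k K R] [Algebra k R'] [Algebra K R'] [IsScalarTower k K R']
    {a : Spec (CommRingCat.of R) ⟶ Y} {a' : Spec (CommRingCat.of R') ⟶ Y}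
    {v : Fin (N + 1) → R} {v' : Fin (N + 1) → R'} (h : IsVec Φ hA s a v) (h' : IsVec Φ hA s a' v')
    {i j : Fin (N + 1)} (hi : IsUnit (v i)) (hj : IsUnit (v' j))
    (c : Spec (CommRingCat.of T) ⟶ Spec (CommRingCat.of R)) (c' : Spec (CommRingCat.of T) ⟶ Spec (CommRingCat.of R'))
    (e : c ≫ a = c' ≫ a') : c ≫ ppt (K := K) v i hi = c' ≫ ppt v' j hj := by
  obtain ⟨ik, iK, it, hT⟩ := exists_algebras f (c ≫ a)
  letI := ik
  letI := iK
  haveI := it
  obtain ⟨ha, -, -⟩ := id h
  obtain ⟨ha', -, -⟩ := id h'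
  obtain ⟨φ, hφ⟩ := exists_algHom (k := K) c (by rw [← ha, ← hT, Category.assoc])
  obtain ⟨φ', hφ'⟩ := exists_algHom (k := K) c' (by rw [← ha', ← hT, e, Category.assoc])
  subst hφ hφ'
  rw [comp_ppt, comp_ppt]
  exact ppt_of_rel ((h.comp φ).rel (e ▸ h'.comp φ')) _ _

/-- An open piece with coordinates. -/
structure Piece (y : BrSev.bc f K) where
  /-- the ring -/
  R : Type u
  [cR : CommRing R]
  [kR : Algebra k R]
  [KR : Algebra K R]
  [tR : IsScalarTower k K R]
  /-- the inclusion -/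
  a : Spec (CommRingCat.of R) ⟶ BrSev.bc f K
  isOpenImmersion : IsOpenImmersion a
  mem : y ∈ Set.range a
  /-- the coordinates -/
  v : Fin (N + 1) → R
  /-- the index -/
  i : Fin (N + 1)
  hi : v i = 1
  isVec : IsVec Φ hA s a v

attribute [instance] Piece.cR Piece.kR Piece.KR Piece.tR Piece.isOpenImmersion

theorem exists_piece (y : BrSev.bc f K) : Nonempty (Piece (Φ := Φ) (hA := hA) (s := s) y) := by
  obtain ⟨U, hU, hyU, -⟩ := exists_isAffineOpen_mem_and_subset (X := BrSev.bc f K) (x := y) (U := ⊤) trivial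
  obtain ⟨P, hP⟩ : y ∈ Set.range hU.fromSpec := by rw [hU.range_fromSpec]; exact hyU
  obtain ⟨ik, iK, it, hT⟩ := exists_algebras f (R := Γ(BrSev.bc f K, U)) hU.fromSpec
  letI := ik
  letI := iK
  haveI := it
  obtain ⟨r, hr, v, i, hi, hv⟩ := exists_isVec (Φ := Φ) (hA := hA) (s := s) (R := Γ(BrSev.bc f K, U)) hU.fromSpec hT P
  haveI : IsOpenImmersion (Spec.map (CommRingCat.ofHom (algebraMap Γ(BrSev.bc f K, U) (Localization.Away r)))) :=
    IsOpenImmersion.of_isLocalization r
  obtain ⟨q, hq⟩ : P ∈ Set.range (PrimeSpectrum.comap (algebraMap Γ(BrSev.bc f K, U) (Localization.Away r))) := by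
    rw [PrimeSpectrum.localization_away_comap_range _ r]
    exact hr
  exact ⟨{ R := Localization.Away r, a := _, isOpenImmersion := inferInstance,
           mem := ⟨q, by rw [Scheme.Hom.comp_apply, ← hP]; exact congrArg _ hq⟩, v, i, hi, isVec := hv }⟩

variable (Φ hA s) in
/-- A chosen piece. -/
def piece (y : BrSev.bc f K) : Piece (Φ := Φ) (hA := hA) (s := s) y := (exists_piece y).some

variable (Φ hA s) in
/-- The cover by pieces. -/
def cover : (BrSev.bc f K).OpenCover :=
  Scheme.Cover.mkOfCovers (BrSev.bc f K) (fun y => Spec (CommRingCat.of (piece Φ hA s y).R))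
    (fun y => (piece Φ hA s y).a) (fun y => ⟨y, (piece Φ hA s y).mem⟩) (fun y => (piece Φ hA s y).isOpenImmersion)

theorem hom_ext_affine {Z W : Scheme.{u}} {h h' : Z ⟶ W}
    (H : ∀ (T : Type u) [CommRing T] (c : Spec (CommRingCat.of T) ⟶ Z), c ≫ h = c ≫ h') : h = h' := by
  refine Z.affineCover.hom_ext _ _ fun i => ?_
  rw [← cancel_epi (Z.affineCover.X i).isoSpec.inv]
  simpa only [Category.assoc] using H Γ(Z.affineCover.X i, ⊤) ((Z.affineCover.X i).isoSpec.inv ≫ Z.affineCover.f i)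

variable (Φ hA s) in
/-- The morphism to projective space. -/
def toProj : BrSev.bc f K ⟶ CohB1.ProjSpace N K :=
  (cover Φ hA s).glueMorphisms
    (fun y => ppt (piece Φ hA s y).v (piece Φ hA s y).i ((piece Φ hA s y).hi ▸ isUnit_one)) fun x y => by
      refine hom_ext_affine fun T _ c => ?_
      simp only [← Category.assoc]
      exact ppt_agree (piece Φ hA s x).isVec (piece Φ hA s y).isVec _ _ _ _
        (by simp only [Category.assoc]; exact congrArg (c ≫ ·) pullback.condition)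

theorem comp_toProj {a : Spec (CommRingCat.of R) ⟶ Y} {v : Fin (N + 1) → R} (h : IsVec Φ hA s a v)
    {i : Fin (N + 1)} (hi : IsUnit (v i)) : a ≫ toProj Φ hA s = ppt v i hi := by
  refine Scheme.Cover.hom_ext ((cover Φ hA s).pullback₁ a) _ _ fun y => ?_
  refine hom_ext_affine fun T _ c => ?_
  show c ≫ pullback.fst a (piece Φ hA s y).a ≫ a ≫ toProj Φ hA s = c ≫ pullback.fst a (piece Φ hA s y).a ≫ _
  have e : (piece Φ hA s y).a ≫ toProj Φ hA s =
      ppt (piece Φ hA s y).v (piece Φ hA s y).i ((piece Φ hA s y).hi ▸ isUnit_one) :=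
    (cover Φ hA s).ι_glueMorphisms _ _ y
  rw [pullback.condition_assoc, e, ← Category.assoc, ← Category.assoc]
  exact (ppt_agree h (piece Φ hA s y).isVec hi _ _ _
    (by simp only [Category.assoc]; exact congrArg (c ≫ ·) pullback.condition)).symm

theorem toProj_toSpec : toProj Φ hA s ≫ CohB1.ProjSpace.toSpec N K = BrSev.bcTo f K := by
  refine (cover Φ hA s).hom_ext _ _ fun y => ?_
  rw [← Category.assoc]
  show ((piece Φ hA s y).a ≫ toProj Φ hA s) ≫ _ = (piece Φ hA s y).a ≫ _
  rw [comp_toProj (piece Φ hA s y).isVec ((piece Φ hA s y).hi ▸ isUnit_one), ppt_toSpec]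
  exact (piece Φ hA s y).isVec.choose.symm

theorem mono_toProj : Mono (toProj Φ hA s) := by
  constructor
  intro Z b b' e
  refine hom_ext_affine fun T _ c => ?_
  obtain ⟨ik, iK, it, hT⟩ := exists_algebras f (c ≫ b)
  letI := ik
  letI := iK
  haveI := it
  have hT' : (c ≫ b') ≫ BrSev.bcTo f K = Spec.map (CommRingCat.ofHom (algebraMap K T)) := by
    rw [← toProj_toSpec (Φ := Φ) (hA := hA) (s := s), Category.assoc, ← reassoc_of% e, toProj_toSpec]
    simpa using hT
  choose r hr v i hi hv using fun P => exists_isVec (Φ := Φ) (hA := hA) (s := s) (c ≫ b) hT P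
  choose r' hr' v' i' hi' hv' using fun P => exists_isVec (Φ := Φ) (hA := hA) (s := s) (c ≫ b') hT' P
  let 𝒰 := Scheme.affineOpenCoverOfSpanRangeEqTop (R := CommRingCat.of T) (fun P : PrimeSpectrum T => r P * r' P) (by
    by_contra hne
    obtain ⟨M, hM, hle⟩ := Ideal.exists_le_maximal _ hne
    exact ((hM.isPrime.mem_or_mem (hle (Ideal.subset_span ⟨⟨M, hM.isPrime⟩, rfl⟩))).elim
      (hr ⟨M, hM.isPrime⟩) (hr' ⟨M, hM.isPrime⟩)))
  refine 𝒰.openCover.hom_ext _ _ fun P => ?_
  show Spec.map (CommRingCat.ofHom (algebraMap T (Localization.Away (r P * r' P)))) ≫ c ≫ b =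
    Spec.map (CommRingCat.ofHom (algebraMap T (Localization.Away (r P * r' P)))) ≫ c ≫ b'
  let L := Localization.Away (r P * r' P)
  let ψ : Localization.Away (r P) →ₐ[K] L :=
    (IsLocalization.liftAlgHom (M := Submonoid.powers (r P)) (f := IsScalarTower.toAlgHom K T L) fun y => by
      obtain ⟨_, m, rfl⟩ := y
      simpa using (isUnit_of_mul_isUnit_left (map_mul (algebraMap T L) _ _ ▸
        IsLocalization.Away.algebraMap_isUnit (S := L) (r P * r' P))).pow m)
  let ψ' : Localization.Away (r' P) →ₐ[K] L :=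
    (IsLocalization.liftAlgHom (M := Submonoid.powers (r' P)) (f := IsScalarTower.toAlgHom K T L) fun y => by
      obtain ⟨_, m, rfl⟩ := y
      simpa using (isUnit_of_mul_isUnit_right (map_mul (algebraMap T L) _ _ ▸
        IsLocalization.Away.algebraMap_isUnit (S := L) (r P * r' P))).pow m)
  have hψ : (ψ : Localization.Away (r P) →+* L).comp (algebraMap T _) = algebraMap T L :=
    RingHom.ext fun x => by simp [ψ]
  have hψ' : (ψ' : Localization.Away (r' P) →+* L).comp (algebraMap T _) = algebraMap T L :=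
    RingHom.ext fun x => by simp [ψ']
  have h1 := (hv P).comp ψ
  have h2 := (hv' P).comp ψ'
  rw [← Spec.map_comp_assoc, ← CommRingCat.ofHom_comp, hψ] at h1
  rw [← Spec.map_comp_assoc, ← CommRingCat.ofHom_comp, hψ'] at h2
  have p1 : (⇑ψ ∘ v P) (i P) = 1 := by simp [hi P]
  have p2 : (⇑ψ' ∘ v' P) (i' P) = 1 := by simp [hi' P]
  refine h1.eq_of_ppt_eq h2 p1 p2 ?_
  rw [← comp_toProj h1, ← comp_toProj h2]
  simp only [Category.assoc, e]

theorem isIso_toProj : IsIso (toProj Φ hA s) := by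
  haveI := mono_toProj (Φ := Φ) (hA := hA) (s := s)
  let 𝒰 := Proj.affineOpenCoverOfIrrelevantLESpan 𝒫 (fun i : Fin (N + 1) => (X i : MvPolynomial (Fin (N + 1)) K))
    (fun i => X_mem i) (fun _ => one_pos) (Groth.Agent.SegreX.irrelevant_le_span N K)
  refine (IsZariskiLocalAtTarget.iff_of_openCover (P := MorphismProperty.isomorphisms Scheme.{u}) 𝒰.openCover).2
    fun i => ?_
  show IsIso (pullback.snd (toProj Φ hA s) (Proj.awayι 𝒫 (X i : MvPolynomial (Fin (N + 1)) K) (X_mem i) one_pos))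
  letI := (cst (R := K) (n := N) i).toAlgebra
  letI := baseAlg (k := k) (K := K) (Away 𝒫 (X i : MvPolynomial (Fin (N + 1)) K))
  haveI := baseAlg_tower (k := k) (K := K) (Away 𝒫 (X i : MvPolynomial (Fin (N + 1)) K))
  let C := Away 𝒫 (X i : MvPolynomial (Fin (N + 1)) K)
  have hu : IsUni (crd (R := K) (n := N) i) := isUni_of_isUnit (i := i) (crd_self (R := K) i ▸ isUnit_one)
  let p := (s.bij C).symm (pPt Φ hA N.succ_pos (crd (R := K) (n := N) i) hu)
  let a : Spec (CommRingCat.of C) ⟶ BrSev.bc f K := pullback.lift p.1 (Spec.map (CommRingCat.ofHom (algebraMap K C)))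
    (by rw [p.2, ← Spec.map_comp, ← CommRingCat.ofHom_comp, ← IsScalarTower.algebraMap_eq])
  have ha : IsVec Φ hA s a (crd (R := K) (n := N) i) :=
    ⟨pullback.lift_snd _ _ _, hu, by
      rw [show toPt a (pullback.lift_snd _ _ _) = p from Subtype.ext (pullback.lift_fst _ _ _)]
      exact Equiv.apply_symm_apply _ _⟩
  have hsec : a ≫ toProj Φ hA s = Proj.awayι 𝒫 (X i : MvPolynomial (Fin (N + 1)) K) (X_mem i) one_pos :=
    (comp_toProj ha (crd_self (R := K) i ▸ isUnit_one)).trans (awayι_eq_ppt i).symm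
  haveI : IsSplitEpi (pullback.snd (toProj Φ hA s) (Proj.awayι 𝒫 (X i : MvPolynomial (Fin (N + 1)) K) (X_mem i) one_pos)) :=
    IsSplitEpi.mk' ⟨pullback.lift a (𝟙 _) (by rw [hsec, Category.id_comp]), pullback.lift_snd _ _ _⟩
  exact isIso_of_mono_of_isSplitEpi _

variable (Φ hA s) in
/-- The splitting. -/
def splitting : BrSev.Splitting f K N :=
  haveI := isIso_toProj (Φ := Φ) (hA := hA) (s := s)
  ⟨asIso (toProj Φ hA s), toProj_toSpec⟩

end Main

end Groth.Agent.SBAut.ProjIso
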