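import Groth.Prelude.Def_BrSev2
import Mathlib.AlgebraicGeometry.Gluing
import Mathlib.AlgebraicGeometry.Stalk
import Mathlib.AlgebraicGeometry.Morphisms.Flat

/-!
# Endomorphisms of a scheme over a field from natural maps on its affine points
-/

universe u

open CategoryTheory Limits AlgebraicGeometry

noncomputable section

namespace Groth.Agent.SBAut

/-- Morphisms which agree on the spectra of all local rings are equal. -/
theorem hom_ext_fromSpecStalk {X Y : Scheme.{u}} (h h' : X ⟶ Y)
    (H : ∀ x : X, X.fromSpecStalk x ≫ h = X.fromSpecStalk x ≫ h') : h = h' := by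
  have hb : ∀ x, h x = h' x := fun x => by
    have := congrArg (fun m : Spec (X.presheaf.stalk x) ⟶ Y => m (IsLocalRing.closedPoint _)) (H x)
    simpa [Scheme.Hom.comp_apply] using this
  refine Scheme.hom_ext_of_forall h h' fun x => ?_
  obtain ⟨_, ⟨U : Y.Opens, hU, rfl⟩, hxU, -⟩ := Y.isBasis_affineOpens.exists_subset_of_mem_open (Set.mem_univ (h x)) isOpen_univ
  refine ⟨h ⁻¹ᵁ U ⊓ h' ⁻¹ᵁ U, ⟨hxU, show h' x ∈ U from hb x ▸ hxU⟩, ?_⟩
  set W := h ⁻¹ᵁ U ⊓ h' ⁻¹ᵁ U
  haveI : IsAffine U.toScheme := hU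
  have ha0 : Set.range (W.ι ≫ h) ⊆ Set.range U.ι := by
    rintro _ ⟨w, rfl⟩
    rw [Scheme.Opens.range_ι]
    exact w.2.1
  have hb0 : Set.range (W.ι ≫ h') ⊆ Set.range U.ι := by
    rintro _ ⟨w, rfl⟩
    rw [Scheme.Opens.range_ι]
    exact w.2.2
  let a : W.toScheme ⟶ U.toScheme := IsOpenImmersion.lift U.ι (W.ι ≫ h) ha0
  let b : W.toScheme ⟶ U.toScheme := IsOpenImmersion.lift U.ι (W.ι ≫ h') hb0
  have hab : a = b := by
    refine ext_of_isAffine (CommRingCat.hom_ext (RingHom.ext fun s => ?_))
    refine TopCat.Presheaf.section_ext W.toScheme.sheaf _ _ _ fun y hy => ?_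
    have h1 : W.toScheme.fromSpecStalk y ≫ a = W.toScheme.fromSpecStalk y ≫ b := by
      rw [← cancel_mono U.ι, Category.assoc, Category.assoc, IsOpenImmersion.lift_fac, IsOpenImmersion.lift_fac,
        ← Scheme.SpecMap_stalkMap_fromSpecStalk_assoc, ← Scheme.SpecMap_stalkMap_fromSpecStalk_assoc, H]
    have h2 := congrArg Scheme.Hom.appTop h1
    simp only [Scheme.Hom.comp_appTop, Scheme.fromSpecStalk_appTop] at h2
    have h3 := ConcreteCategory.congr_hom h2 s
    simp only [CommRingCat.comp_apply, homOfLE_refl, op_id, CategoryTheory.Functor.map_id, CommRingCat.id_apply] at h3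
    exact (ConcreteCategory.bijective_of_isIso
      (Scheme.ΓSpecIso (W.toScheme.presheaf.stalk y)).inv).1 h3
  rw [← IsOpenImmersion.lift_fac U.ι (W.ι ≫ h) ha0, ← IsOpenImmersion.lift_fac U.ι (W.ι ≫ h') hb0]
  exact congrArg (· ≫ U.ι) hab

theorem comap_surjective_of_flat_local {O R : Type u} [CommRing O] [CommRing R] [IsLocalRing O] [IsLocalRing R]
    (f : O →+* R) (hf : f.Flat) [IsLocalHom f] : Function.Surjective (PrimeSpectrum.comap f) := by
  algebraize [f]
  haveI : IsLocalHom (algebraMap O R) := ‹IsLocalHom f›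
  haveI : Module.FaithfullyFlat O R := Module.FaithfullyFlat.of_flat_of_isLocalHom
  exact PrimeSpectrum.comap_surjective_of_faithfullyFlat

variable {k : Type u} [Field k] {X : Scheme.{u}} (p : X ⟶ Spec (CommRingCat.of k))

/-- The algebra structure given by a morphism to the spectrum of the base. -/
abbrev algOf {R : Type u} [CommRing R] (g : Spec (CommRingCat.of R) ⟶ X) : Algebra k R :=
  (Spec.preimage (g ≫ p)).hom.toAlgebra

theorem algOf_spec {R : Type u} [CommRing R] (g : Spec (CommRingCat.of R) ⟶ X) :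
    letI := algOf p g
    g ≫ p = Spec.map (CommRingCat.ofHom (algebraMap k R)) :=
  (Spec.map_preimage (g ≫ p)).symm

/-- An algebra map from compatibility with the structure morphisms. -/
theorem exists_algHom {R S : Type u} [CommRing R] [CommRing S] [Algebra k R] [Algebra k S]
    (g : Spec (CommRingCat.of S) ⟶ Spec (CommRingCat.of R))
    (h : g ≫ Spec.map (CommRingCat.ofHom (algebraMap k R)) = Spec.map (CommRingCat.ofHom (algebraMap k S))) :
    ∃ φ : R →ₐ[k] S, Spec.map (CommRingCat.ofHom (φ : R →+* S)) = g := by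
  obtain ⟨f, rfl⟩ := Spec.map_surjective g
  rw [← Spec.map_comp] at h
  have h2 := congrArg CommRingCat.Hom.hom (Spec.map_injective h)
  exact ⟨⟨f.hom, fun c => RingHom.congr_fun h2 c⟩, rfl⟩

/-- A point factoring through another point is its image. -/
theorem factor_through {R S : Type u} [CommRing R] [CommRing S] [Algebra k S]
    (j : Spec (CommRingCat.of R) ⟶ X) (g : BrSev.Pts p S)
    (a : Spec (CommRingCat.of S) ⟶ Spec (CommRingCat.of R)) (h : a ≫ j = g.1) :
    letI := algOf p j
    ∃ φ : R →ₐ[k] S, BrSev.Pts.map p φ ⟨j, algOf_spec p j⟩ = g ∧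
      Spec.map (CommRingCat.ofHom (φ : R →+* S)) = a := by
  letI := algOf p j
  obtain ⟨φ, hφ⟩ := exists_algHom (k := k) a (by
    rw [← algOf_spec p j, ← Category.assoc, h, g.2])
  exact ⟨φ, Subtype.ext (by show Spec.map _ ≫ j = g.1; rw [hφ, h]), hφ⟩

/-- A point composed with a map of spectra is again a point, in the induced structure. -/
theorem comp_point {R S : Type u} [CommRing R] [CommRing S] [Algebra k R]
    (g : BrSev.Pts p R) (a : Spec (CommRingCat.of S) ⟶ Spec (CommRingCat.of R)) :
    letI := algOf p (a ≫ g.1)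
    ∃ φ : R →ₐ[k] S, Spec.map (CommRingCat.ofHom (φ : R →+* S)) = a := by
  letI := algOf p (a ≫ g.1)
  exact exists_algHom (k := k) a (by rw [← algOf_spec p (a ≫ g.1), Category.assoc, g.2])

/-- A natural family of maps on affine points comes from a unique morphism. -/
theorem exists_hom_of_natural (η : ∀ (R : Type u) [CommRing R] [Algebra k R], BrSev.Pts p R → BrSev.Pts p R)
    (hη : ∀ (R S : Type u) [CommRing R] [Algebra k R] [CommRing S] [Algebra k S] (φ : R →ₐ[k] S) (g : BrSev.Pts p R),
      η S (BrSev.Pts.map p φ g) = BrSev.Pts.map p φ (η R g)) :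
    ∃ h : X ⟶ X, h ≫ p = p ∧ ∀ (R : Type u) [CommRing R] [Algebra k R] (g : BrSev.Pts p R), g.1 ≫ h = (η R g).1 := by
  classical
  let ι : ∀ i : X.affineCover.I₀, X.affineCover.X i ⟶ X := X.affineCover.f
  haveI : ∀ i, IsAffine (X.affineCover.X i) := fun i => inferInstance
  let R' : X.affineCover.I₀ → Type u := fun i => Γ(X.affineCover.X i, ⊤)
  let j : ∀ i, Spec (CommRingCat.of (R' i)) ⟶ X := fun i => (X.affineCover.X i).isoSpec.inv ≫ ι i
  let P : ∀ i, letI := algOf p (j i); BrSev.Pts p (R' i) := fun i => letI := algOf p (j i); ⟨j i, algOf_spec p (j i)⟩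
  let h' : ∀ i, X.affineCover.X i ⟶ X := fun i =>
    letI := algOf p (j i); (X.affineCover.X i).isoSpec.hom ≫ (η (R' i) (P i)).1
  have key : ∀ i (S : Type u) [CommRing S] [Algebra k S] (g : BrSev.Pts p S)
      (a : Spec (CommRingCat.of S) ⟶ X.affineCover.X i), a ≫ ι i = g.1 → a ≫ h' i = (η S g).1 := by
    intro i S _ _ g a ha
    letI := algOf p (j i)
    obtain ⟨φ, hg, hφ⟩ := factor_through p (j i) g (a ≫ (X.affineCover.X i).isoSpec.hom) (by
      simp only [j, Category.assoc, Iso.hom_inv_id_assoc]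
      exact ha)
    conv_rhs => rw [← hg]; erw [hη (R' i) S φ (P i)]
    show a ≫ (X.affineCover.X i).isoSpec.hom ≫ _ = Spec.map (CommRingCat.ofHom (φ : R' i →+* S)) ≫ _
    rw [hφ, Category.assoc]
  have hglue : ∀ a b, pullback.fst (ι a) (ι b) ≫ h' a = pullback.snd (ι a) (ι b) ≫ h' b := by
    intro a b
    refine (pullback (ι a) (ι b)).affineCover.hom_ext _ _ fun c => ?_
    set Z := (pullback (ι a) (ι b)).affineCover.X c
    set z := (pullback (ι a) (ι b)).affineCover.f c
    rw [← cancel_epi Z.isoSpec.inv]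
    let g₁ : Spec (CommRingCat.of Γ(Z, ⊤)) ⟶ X := (Z.isoSpec.inv ≫ z ≫ pullback.fst (ι a) (ι b)) ≫ ι a
    letI := algOf p g₁
    let g : BrSev.Pts p Γ(Z, ⊤) := ⟨g₁, algOf_spec p g₁⟩
    have e1 := key a Γ(Z, ⊤) g (Z.isoSpec.inv ≫ z ≫ pullback.fst (ι a) (ι b)) rfl
    have e2 := key b Γ(Z, ⊤) g (Z.isoSpec.inv ≫ z ≫ pullback.snd (ι a) (ι b)) (by
      show _ = g₁
      simp only [g₁, Category.assoc, pullback.condition])
    simp only [Category.assoc] at e1 e2
    rw [e1, e2]
  let h := X.affineCover.glueMorphisms h' hglue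
  have hh : ∀ i, ι i ≫ h = h' i := fun i => X.affineCover.ι_glueMorphisms h' hglue i
  refine ⟨h, ?_, ?_⟩
  · refine X.affineCover.hom_ext _ _ fun i => ?_
    letI := algOf p (j i)
    show ι i ≫ h ≫ p = ι i ≫ p
    rw [← Category.assoc, hh, Category.assoc, (η (R' i) (P i)).2, ← algOf_spec p (j i)]
    simp [j]
  · intro S _ _ g
    have aff : ∀ (i : X.affineCover.I₀) (R : Type u) [CommRing R] (z : Spec (CommRingCat.of R) ⟶ Spec (CommRingCat.of S))
        (b : Spec (CommRingCat.of R) ⟶ X.affineCover.X i), z ≫ g.1 = b ≫ ι i → b ≫ h' i = z ≫ (η S g).1 := by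
      intro i R _ z b hzb
      letI := algOf p (z ≫ g.1)
      obtain ⟨φ, hφ⟩ := comp_point p g z
      have e1 := key i R (BrSev.Pts.map p φ g) b (by
        show _ = Spec.map (CommRingCat.ofHom (φ : S →+* R)) ≫ g.1
        rw [hφ, hzb])
      rw [hη S R φ g] at e1
      rw [e1]
      show Spec.map (CommRingCat.ofHom (φ : S →+* R)) ≫ (η S g).1 = _
      rw [hφ]
    refine Scheme.Cover.hom_ext (X.affineCover.pullback₁ g.1) _ _ fun i => ?_
    refine (pullback g.1 (ι i)).affineCover.hom_ext _ _ fun c => ?_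
    rw [← cancel_epi ((pullback g.1 (ι i)).affineCover.X c).isoSpec.inv]
    show ((pullback g.1 (ι i)).affineCover.X c).isoSpec.inv ≫ (pullback g.1 (ι i)).affineCover.f c ≫
        pullback.fst g.1 (ι i) ≫ g.1 ≫ h =
      ((pullback g.1 (ι i)).affineCover.X c).isoSpec.inv ≫ (pullback g.1 (ι i)).affineCover.f c ≫
        pullback.fst g.1 (ι i) ≫ (η S g).1
    have e1 := aff i _ (((pullback g.1 (ι i)).affineCover.X c).isoSpec.inv ≫
        (pullback g.1 (ι i)).affineCover.f c ≫ pullback.fst g.1 (ι i))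
      (((pullback g.1 (ι i)).affineCover.X c).isoSpec.inv ≫
        (pullback g.1 (ι i)).affineCover.f c ≫ pullback.snd g.1 (ι i))
      (by simp only [Category.assoc, pullback.condition])
    simp only [Category.assoc] at e1
    have e3 : pullback.fst g.1 (ι i) ≫ g.1 ≫ h = pullback.snd g.1 (ι i) ≫ h' i := by
      rw [← Category.assoc, pullback.condition, Category.assoc, hh]
    erw [e3]
    exact e1

/-- A morphism over the base from its effect on local points over an extension. -/
theorem hom_ext_local (h h' : X ⟶ X) (hp : h ≫ p = p) (hp' : h' ≫ p = p)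
    (K : Type u) [Field K] [Algebra k K]
    (H : ∀ (R : Type u) [CommRing R] [IsLocalRing R] [Algebra k R] [Algebra K R] [IsScalarTower k K R]
      (g : BrSev.Pts p R), g.1 ≫ h = g.1 ≫ h') : h = h' := by
  refine hom_ext_fromSpecStalk h h' fun x => ?_
  let O : Type u := X.presheaf.stalk x
  letI : IsLocalRing O := inferInstanceAs (IsLocalRing (X.presheaf.stalk x))
  letI : Algebra k O := algOf p (X.fromSpecStalk x : Spec (CommRingCat.of O) ⟶ X)
  let B := TensorProduct k K O
  obtain ⟨⟨q, hq⟩, hqm⟩ : ∃ q : PrimeSpectrum B, PrimeSpectrum.comap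
      (Algebra.TensorProduct.includeRight (R := k) (A := K) (B := O)).toRingHom q = IsLocalRing.closedPoint O := by
    haveI : Module.FaithfullyFlat O (TensorProduct k O K) := inferInstance
    obtain ⟨q, hq⟩ := PrimeSpectrum.comap_surjective_of_faithfullyFlat (A := O) (B := TensorProduct k O K)
      (IsLocalRing.closedPoint O)
    refine ⟨PrimeSpectrum.comap (Algebra.TensorProduct.comm k K O).toRingHom q, ?_⟩
    rw [← hq]
    refine PrimeSpectrum.ext (Ideal.ext fun o => ?_)
    simp
  let R := Localization.AtPrime q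
  let φ : O →ₐ[k] R := ((IsScalarTower.toAlgHom k B R)).comp
    (Algebra.TensorProduct.includeRight (R := k) (A := K) (B := O))
  letI : Algebra O B := (Algebra.TensorProduct.includeRight (R := k) (A := K) (B := O)).toRingHom.toAlgebra
  have hflat : (φ : O →+* R).Flat := by
    have h1 : (algebraMap B R).Flat := by rw [RingHom.flat_algebraMap_iff]; infer_instance
    have h2 : ((Algebra.TensorProduct.includeRight (R := k) (A := K) (B := O)).toRingHom).Flat := by
      haveI : Module.Flat O (TensorProduct k O K) := inferInstance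
      have h3 : (algebraMap O (TensorProduct k O K)).Flat := RingHom.flat_algebraMap_iff.mpr inferInstance
      have h4 := RingHom.Flat.comp h3 (RingHom.Flat.of_bijective
        (f := (Algebra.TensorProduct.comm k O K).toRingHom) (Algebra.TensorProduct.comm k O K).bijective)
      convert h4 using 1
      ext o
      simp
    exact RingHom.Flat.comp h2 h1
  haveI : IsLocalHom (φ : O →+* R) := by
    refine ⟨fun o ho => ?_⟩
    by_contra hno
    have hm : o ∈ (IsLocalRing.closedPoint O).asIdeal := (IsLocalRing.mem_maximalIdeal o).mpr hno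
    rw [← hqm] at hm
    exact ((IsLocalization.AtPrime.isUnit_to_map_iff R q _).mp ho) hm
  haveI : Flat (Spec.map (CommRingCat.ofHom (φ : O →+* R))) := Flat.SpecMap_iff.mpr hflat
  haveI : Surjective (Spec.map (CommRingCat.ofHom (φ : O →+* R))) :=
    ⟨comap_surjective_of_flat_local (φ : O →+* R) hflat⟩
  haveI : Epi (Spec.map (CommRingCat.ofHom (φ : O →+* R))) := Flat.epi_of_flat_of_surjective _
  rw [← cancel_epi (Spec.map (CommRingCat.ofHom (φ : O →+* R)))]
  have := H R (BrSev.Pts.map p φ ⟨X.fromSpecStalk x, algOf_spec p _⟩)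
  simp only [BrSev.Pts.map, Category.assoc] at this
  exact this

end Groth.Agent.SBAut
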