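import Groth.Agent.SBAut.Natural

/-!
# Left ideals attached to unimodular vectors over arbitrary algebras over a splitting field
-/

set_option autoImplicit false
universe u

open scoped TensorProduct
open Matrix

noncomputable section

namespace Groth.Agent.SBAut

section Submodule

variable {R : Type u} [CommRing R]

/-- Two nested submodules with projective quotients of the same rank are equal. -/
theorem submodule_eq_of_le {M : Type u} [AddCommGroup M] [Module R M] [Module.Finite R M] {N₁ N₂ : Submodule R M}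
    (h : N₁ ≤ N₂) [Module.Projective R (M ⧸ N₁)] [Module.Projective R (M ⧸ N₂)]
    (hr : Module.rankAtStalk (R := R) (M ⧸ N₁) = Module.rankAtStalk (R := R) (M ⧸ N₂)) : N₁ = N₂ := by
  let q := Submodule.factor h
  obtain ⟨s, hs⟩ := Module.projective_lifting_property q LinearMap.id (Submodule.factor_surjective h)
  have hqs : ∀ x, q (s x) = x := fun x => LinearMap.congr_fun hs x
  let e : (M ⧸ N₁) ≃ₗ[R] LinearMap.ker q × (M ⧸ N₂) :=
    { toFun := fun x => (⟨x - s (q x), by simp [hqs]⟩, q x)
      map_add' := fun x y => by ext <;> simp <;> abel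
      map_smul' := fun c x => by ext <;> simp [smul_sub]
      invFun := fun z => (z.1 : M ⧸ N₁) + s z.2
      left_inv := fun x => by simp
      right_inv := fun z => by
        have := LinearMap.mem_ker.mp z.1.2
        ext <;> simp [hqs, this] }
  haveI : Module.Projective R (LinearMap.ker q) :=
    Module.Projective.of_split (LinearMap.inl R (LinearMap.ker q) (M ⧸ N₂) |> e.symm.toLinearMap.comp)
      ((LinearMap.fst R (LinearMap.ker q) (M ⧸ N₂)).comp e.toLinearMap) (LinearMap.ext fun x => by simp)
  haveI : Module.Finite R (LinearMap.ker q) :=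
    Module.Finite.of_surjective ((LinearMap.fst R (LinearMap.ker q) (M ⧸ N₂)).comp e.toLinearMap)
      (Prod.fst_surjective.comp e.surjective)
  have h0 : Module.rankAtStalk (R := R) (LinearMap.ker q) = 0 := by
    rw [Module.rankAtStalk_eq_of_equiv e, Module.rankAtStalk_prod] at hr
    simpa using hr
  haveI := Module.rankAtStalk_eq_zero_iff_subsingleton.1 h0
  refine le_antisymm h fun x hx => ?_
  have hxq : Submodule.Quotient.mk (p := N₁) x ∈ LinearMap.ker q := by
    simpa [q, Submodule.Quotient.mk_eq_zero] using hx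
  have := congrArg Subtype.val (Subsingleton.elim (⟨_, hxq⟩ : LinearMap.ker q) 0)
  exact (Submodule.Quotient.mk_eq_zero N₁).1 this

variable {n : ℕ}

/-- A matrix with rows proportional to a unimodular vector. -/
theorem eq_vecMulVec {v w : Fin n → R} (hw : ∑ i, w i * v i = 1) {M : Matrix (Fin n) (Fin n) R}
    (hM : M ∈ rowIdeal v) : M = vecMulVec (fun a => ∑ i, w i * M a i) v := by
  refine Matrix.ext fun a j => ?_
  rw [vecMulVec_apply, congrFun ((hM a).eq_smul hw) j]
  rfl

/-- The quotient by the row ideal of a unimodular vector. -/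
theorem rowIdeal_quotient_global {v : Fin n → R} (hv : IsUni v) :
    Module.Finite R (Matrix (Fin n) (Fin n) R ⧸ rowIdeal v) ∧
      Module.Projective R (Matrix (Fin n) (Fin n) R ⧸ rowIdeal v) ∧
        ∀ P : PrimeSpectrum R, Module.rankAtStalk (Matrix (Fin n) (Fin n) R ⧸ rowIdeal v) P = n * n - n := by
  obtain ⟨w, hw⟩ := hv
  let ret : Matrix (Fin n) (Fin n) R →ₗ[R] (Fin n → R) :=
    { toFun := fun M a => ∑ i, w i * M a i
      map_add' := fun M N => by funext a; simp [mul_add, Finset.sum_add_distrib]
      map_smul' := fun c M => by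
        funext a
        simp [Finset.mul_sum, mul_left_comm] }
  let inj : (Fin n → R) →ₗ[R] Matrix (Fin n) (Fin n) R :=
    { toFun := fun c => vecMulVec c v
      map_add' := fun c d => Matrix.add_vecMulVec c d v
      map_smul' := fun r c => Matrix.smul_vecMulVec r c v }
  have hri : ∀ c, ret (inj c) = c := fun c => by
    funext i
    show ∑ j, w j * (c i * v j) = c i
    simp_rw [mul_left_comm (w _), ← Finset.mul_sum, hw, mul_one]
  have hmem : ∀ c, inj c ∈ rowIdeal v := fun c i => rel_of_smul_eq (c := c i) rfl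
  let π : Matrix (Fin n) (Fin n) R →ₗ[R] Matrix (Fin n) (Fin n) R ⧸ rowIdeal v := (rowIdeal v).mkQ
  let sec : (Matrix (Fin n) (Fin n) R ⧸ rowIdeal v) →ₗ[R] Matrix (Fin n) (Fin n) R :=
    (rowIdeal v).liftQ (LinearMap.id - inj.comp ret) fun M hM => by
      rw [LinearMap.mem_ker, LinearMap.sub_apply, LinearMap.id_apply, LinearMap.comp_apply, sub_eq_zero]
      exact eq_vecMulVec hw hM
  have hsec : ∀ x, π (sec x) = x := by
    intro x
    obtain ⟨M, rfl⟩ := Submodule.mkQ_surjective (rowIdeal v) x
    simp [π, sec, (Submodule.Quotient.mk_eq_zero _).2 (hmem (ret M))]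
  haveI : Module.Finite R (Matrix (Fin n) (Fin n) R ⧸ rowIdeal v) := inferInstance
  haveI : Module.Projective R (Matrix (Fin n) (Fin n) R ⧸ rowIdeal v) :=
    Module.Projective.of_split sec π (LinearMap.ext hsec)
  let E : Matrix (Fin n) (Fin n) R ≃ₗ[R] (Matrix (Fin n) (Fin n) R ⧸ rowIdeal v) × (Fin n → R) :=
    { toFun := fun M => (π M, ret M)
      map_add' := fun M N => by simp
      map_smul' := fun c M => by simp
      invFun := fun z => sec z.1 + inj z.2
      left_inv := fun M => by simp [π, sec]
      right_inv := fun z => by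
        obtain ⟨M, hM⟩ := Submodule.mkQ_surjective (rowIdeal v) z.1
        have h1 : π (inj z.2) = 0 := (Submodule.Quotient.mk_eq_zero _).2 (hmem _)
        refine Prod.ext ?_ ?_
        · simp [map_add, hsec, h1]
        · simp [← hM, sec, hri] }
  refine ⟨inferInstance, inferInstance, fun P => ?_⟩
  haveI : Nontrivial R := P.nontrivial
  have h := congrFun (Module.rankAtStalk_eq_of_equiv (R := R) E) P
  rw [Module.rankAtStalk_prod, Pi.add_apply,
    Module.rankAtStalk_eq_finrank_of_free (R := R) (M := Matrix (Fin n) (Fin n) R),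
    Module.rankAtStalk_eq_finrank_of_free (R := R) (M := Fin n → R)] at h
  simp [Module.finrank_matrix] at h
  omega

end Submodule

variable {k : Type u} [Field k] {A : Type u} [Ring A] [Algebra k A] {K : Type u} [Field K] [Algebra k K]
  {n : ℕ} (Φ : K ⊗[k] A ≃ₐ[K] Matrix (Fin n) (Fin n) K) (hA : Module.finrank k A = n * n) (hn : 0 < n)
  {R : Type u} [CommRing R] [Algebra k R] [Algebra K R] [IsScalarTower k K R]

/-- The left ideal attached to a unimodular vector over any algebra. -/
def pPt (v : Fin n → R) (hv : IsUni v) : BrSev.SBSet k A (n * n - n) R :=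
  have hmap : ((rowIdeal v).comap ((split Φ R hA hn).toLinearEquiv : R ⊗[k] A →ₗ[R] Matrix (Fin n) (Fin n) R)).map
      ((split Φ R hA hn).toLinearEquiv : R ⊗[k] A →ₗ[R] Matrix (Fin n) (Fin n) R) = rowIdeal v :=
    Submodule.map_comap_eq_of_surjective (split Φ R hA hn).toLinearEquiv.surjective _
  ⟨{ toSubmodule := (rowIdeal v).comap ((split Φ R hA hn).toLinearEquiv : R ⊗[k] A →ₗ[R] Matrix (Fin n) (Fin n) R)
     finite_quotient := by
      haveI := (rowIdeal_quotient_global hv).1
      exact Module.Finite.equiv (Submodule.Quotient.equiv _ _ (split Φ R hA hn).toLinearEquiv hmap).symm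
     projective_quotient := by
      haveI := (rowIdeal_quotient_global hv).2.1
      exact Module.Projective.of_equiv (Submodule.Quotient.equiv _ _ (split Φ R hA hn).toLinearEquiv hmap).symm
     rankAtStalk_eq := fun q => by
      rw [Module.rankAtStalk_eq_of_equiv (Submodule.Quotient.equiv _ _ (split Φ R hA hn).toLinearEquiv hmap)]
      exact (rowIdeal_quotient_global hv).2.2 q }, by
    intro a x hx
    show split Φ R hA hn (a * x) ∈ rowIdeal v
    rw [map_mul]
    exact mul_mem_rowIdeal _ hx⟩

theorem mem_pPt {v : Fin n → R} (hv : IsUni v) (x : R ⊗[k] A) :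
    x ∈ (pPt Φ hA hn v hv).1.toSubmodule ↔ splitHom Φ R x ∈ rowIdeal v := Iff.rfl

theorem pPt_eq_iff {v v' : Fin n → R} (hv : IsUni v) (hv' : IsUni v') :
    pPt Φ hA hn v hv = pPt Φ hA hn v' hv' ↔ Rel v v' := by
  rw [← rowIdeal_eq_iff hv hv']
  refine ⟨fun h => ?_, fun h => sbSet_ext ?_⟩
  · ext M
    obtain ⟨x, rfl⟩ := (splitHom_bijective Φ R hA hn).2 M
    rw [← mem_pPt Φ hA hn hv, ← mem_pPt Φ hA hn hv', h]
  · ext x
    rw [mem_pPt, mem_pPt, h]

theorem eq_of_le {c : ℕ} {N₁ N₂ : BrSev.SBSet k A c R} [Module.Finite k A]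
    (h : N₁.1.toSubmodule ≤ N₂.1.toSubmodule) : N₁ = N₂ :=
  sbSet_ext (submodule_eq_of_le h (funext fun q => by rw [N₁.1.rankAtStalk_eq, N₂.1.rankAtStalk_eq]))

/-- Base change of a vector point. -/
theorem sbMap_pPt {S : Type u} [CommRing S] [Algebra k S] [Algebra K S] [IsScalarTower k K S]
    (φ : R →ₐ[K] S) {v : Fin n → R} (hv : IsUni v) :
    sbMap (φ.restrictScalars k) (pPt Φ hA hn v hv) = pPt Φ hA hn (⇑φ ∘ v) (hv.map φ) := by
  haveI : Module.Finite k A := Module.finite_of_finrank_pos (by rw [hA]; positivity)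
  refine eq_of_le ?_
  show (Module.Grassmannian.map (φ.restrictScalars k) (pPt Φ hA hn v hv).1).toSubmodule ≤ _
  rw [map_toSubmodule_span, Submodule.span_le]
  rintro _ ⟨x, hx, rfl⟩
  rw [SetLike.mem_coe, mem_pPt, splitHom_bc_map]
  exact fun i => ((mem_pPt Φ hA hn hv x).1 hx i).map φ

/-- Every point is given by a normalised vector near each prime. -/
theorem exists_vec (N : BrSev.SBSet k A (n * n - n) R) (P : PrimeSpectrum R) :
    ∃ r : R, r ∉ P.asIdeal ∧ ∃ (v : Fin n → Localization.Away r) (i : Fin n) (_ : v i = 1) (hv : IsUni v),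
      sbMap (IsScalarTower.toAlgHom k R (Localization.Away r)) N = pPt Φ hA hn v hv := by
  haveI : Module.Finite k A := Module.finite_of_finrank_pos (by rw [hA]; positivity)
  let φ : R →ₐ[K] P.asIdeal.ResidueField := IsScalarTower.toAlgHom K R P.asIdeal.ResidueField
  obtain ⟨u, hu, hN⟩ := exists_vecPt Φ hA hn (sbMap (φ.restrictScalars k) N)
  obtain ⟨x, hx, a, i, hr⟩ : ∃ x ∈ N.1.toSubmodule, ∃ a i, splitHom Φ R x a i ∉ P.asIdeal := by
    by_contra! hall
    obtain ⟨y, hy⟩ := (splitHom_bijective Φ P.asIdeal.ResidueField hA hn).2 (vecMulVec (fun _ => 1) u)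
    have hmem : y ∈ (sbMap (φ.restrictScalars k) N).1.toSubmodule := by
      rw [← hN, mem_vecPt, hy]
      exact fun j => rel_of_smul_eq (c := 1) (funext fun l => by simp [vecMulVec_apply])
    have hzero : ∀ z ∈ (sbMap (φ.restrictScalars k) N).1.toSubmodule, splitHom Φ P.asIdeal.ResidueField z = 0 := by
      intro z hz
      rw [show (sbMap (φ.restrictScalars k) N).1.toSubmodule = _ from map_toSubmodule_span _ _] at hz
      induction hz using Submodule.span_induction with
      | mem z hz =>
        obtain ⟨x, hx, rfl⟩ := hz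
        rw [splitHom_bc_map]
        refine Matrix.ext fun b j => ?_
        rw [Matrix.map_apply, Matrix.zero_apply]
        exact Ideal.algebraMap_residueField_eq_zero.2 (hall x hx b j)
      | zero => simp
      | add z z' _ _ h h' => rw [map_add, h, h', add_zero]
      | smul c z _ h => rw [map_smul, h, smul_zero]
    obtain ⟨i, hi⟩ := hu.exists_ne_zero
    have := congrFun (congrFun ((hzero y hmem).symm.trans hy) ⟨0, hn⟩) i
    simp [vecMulVec_apply] at this
    exact hi this.symm
  let M := splitHom Φ R x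
  let S := Localization.Away (M a i)
  refine ⟨M a i, hr, ?_⟩
  obtain ⟨t, ht⟩ := IsLocalization.Away.algebraMap_isUnit (S := S) (M a i)
  let v : Fin n → S := fun j => (↑t⁻¹ : S) * algebraMap R S (M a j)
  have hvi : v i = 1 := by simp [v, ← ht]
  refine ⟨v, i, hvi, isUni_of_isUnit (hvi ▸ isUnit_one), (eq_of_le ?_).symm⟩
  intro z hz
  rw [mem_pPt] at hz
  have hxS : bc (IsScalarTower.toAlgHom k R S) x ∈ (sbMap (IsScalarTower.toAlgHom k R S) N).1.toSubmodule :=
    mem_map_of_mem _ _ hx
  have hMS : splitHom Φ S (bc (IsScalarTower.toAlgHom k R S) x) = M.map (algebraMap R S) :=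
    splitHom_bc_map Φ (IsScalarTower.toAlgHom K R S) x
  obtain ⟨q, hq⟩ := (splitHom_bijective Φ S hA hn).2
    (vecMulVec (fun b => (↑t⁻¹ : S) * splitHom Φ S z b i) (Pi.single a 1))
  have hz' : z = q * bc (IsScalarTower.toAlgHom k R S) x := by
    refine (splitHom_bijective Φ S hA hn).1 ?_
    rw [map_mul, hq, hMS]
    refine Matrix.ext fun b j => ?_
    rw [Matrix.mul_apply, Finset.sum_eq_single a (fun c _ hc => by simp [vecMulVec_apply, hc]) (by simp)]
    have h := hz b j i
    rw [hvi, mul_one] at h
    rw [h, vecMulVec_apply, Pi.single_eq_same, mul_one, Matrix.map_apply]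
    ring
  rw [hz']
  exact (sbMap (IsScalarTower.toAlgHom k R S) N).2 _ _ hxS

end Groth.Agent.SBAut
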