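import Groth.Prelude.Def_BrSev2

/-!
# Left ideals with projective quotient: base change and right multiplication by units
-/

universe u

open scoped TensorProduct

noncomputable section

namespace Groth.Agent.SBAut

variable {k : Type u} [Field k] {A : Type u} [Ring A] [Algebra k A]
  {R S : Type u} [CommRing R] [Algebra k R] [CommRing S] [Algebra k S]

/-- Base change of the algebra. -/
def bc (φ : R →ₐ[k] S) : R ⊗[k] A →ₐ[k] S ⊗[k] A := Algebra.TensorProduct.map φ (AlgHom.id k A)

@[simp] theorem bc_tmul (φ : R →ₐ[k] S) (r : R) (a : A) : bc φ (r ⊗ₜ[k] a) = φ r ⊗ₜ[k] a := rfl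

theorem bc_smul (φ : R →ₐ[k] S) (r : R) (x : R ⊗[k] A) : bc φ (r • x) = φ r • bc φ x := by
  induction x using TensorProduct.induction_on with
  | zero => simp
  | tmul s a => simp [TensorProduct.smul_tmul']
  | add x y hx hy => simp [smul_add, hx, hy]

theorem bc_comp {T : Type u} [CommRing T] [Algebra k T] (φ : R →ₐ[k] S) (ψ : S →ₐ[k] T)
    (x : R ⊗[k] A) : bc (ψ.comp φ) x = bc ψ (bc φ x) := by
  induction x using TensorProduct.induction_on with
  | zero => simp
  | tmul s a => simp
  | add x y hx hy => simp [hx, hy]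

/-- The base change of a point of the Grassmannian is the span of the image. -/
theorem map_toSubmodule_span {c : ℕ} (φ : R →ₐ[k] S) (N : Module.Grassmannian R (R ⊗[k] A) c) :
    (Module.Grassmannian.map φ N).toSubmodule =
      Submodule.span S (bc φ '' (N.toSubmodule : Set (R ⊗[k] A))) := by
  letI : Algebra R S := φ.toAlgebra
  haveI : IsScalarTower k R S := IsScalarTower.of_algebraMap_eq' (φ.comp_algebraMap).symm
  rw [Module.Grassmannian.map_toSubmodule φ N]
  set P := Submodule.span S (bc φ '' (N.toSubmodule : Set (R ⊗[k] A))) with hP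
  have key : ∀ x : R ⊗[k] A,
      Module.Grassmannian.baseChangeMkQ S N.toSubmodule (bc φ x) = (1 : S) ⊗ₜ[R] N.toSubmodule.mkQ x := by
    intro x
    induction x using TensorProduct.induction_on with
    | zero => simp
    | tmul r a =>
      simp only [bc_tmul, Module.Grassmannian.baseChangeMkQ, LinearMap.comp_apply, LinearEquiv.coe_coe,
        TensorProduct.AlgebraTensorModule.cancelBaseChange_symm_tmul, LinearMap.baseChange_tmul]
      have h1 : (r : R) ⊗ₜ[k] a = r • ((1 : R) ⊗ₜ[k] a) := by simp [TensorProduct.smul_tmul']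
      rw [h1, map_smul, TensorProduct.tmul_smul, TensorProduct.smul_tmul']
      congr 1
      show φ r = r • (1 : S)
      rw [Algebra.smul_def, mul_one]; rfl
    | add x y hx hy => simp [hx, hy, TensorProduct.tmul_add]
  apply le_antisymm
  · intro z hz
    let ψ₀ : R ⊗[k] A →ₗ[R] (S ⊗[k] A) ⧸ P :=
      { toFun := fun x => P.mkQ (bc φ x)
        map_add' := fun x y => by simp
        map_smul' := fun r x => by
          rw [bc_smul, map_smul, RingHom.id_apply]
          exact (algebraMap_smul S r _) }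
    have hψ₀ : N.toSubmodule ≤ LinearMap.ker ψ₀ := fun x hx => by
      simp only [LinearMap.mem_ker, ψ₀, LinearMap.coe_mk, AddHom.coe_mk, Submodule.mkQ_apply,
        Submodule.Quotient.mk_eq_zero]
      exact Submodule.subset_span ⟨x, hx, rfl⟩
    let g : S ⊗[R] ((R ⊗[k] A) ⧸ N.toSubmodule) →ₗ[S] (S ⊗[k] A) ⧸ P :=
      (N.toSubmodule.liftQ ψ₀ hψ₀).liftBaseChange S
    have hg : g.comp (Module.Grassmannian.baseChangeMkQ S N.toSubmodule) = P.mkQ := by
      apply LinearMap.ext
      intro w
      induction w using TensorProduct.induction_on with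
      | zero => simp
      | tmul s a =>
        have h2 : s ⊗ₜ[k] a = s • bc φ ((1 : R) ⊗ₜ[k] a) := by simp [TensorProduct.smul_tmul']
        simp only [LinearMap.comp_apply]
        rw [h2, map_smul, map_smul, key, map_smul]
        simp [g, ψ₀]
      | add x y hx hy => rw [map_add, hx, hy, map_add]
    have := LinearMap.congr_fun hg z
    rw [LinearMap.comp_apply, LinearMap.mem_ker.mp hz, map_zero] at this
    exact (Submodule.Quotient.mk_eq_zero P).mp this.symm
  · rw [hP, Submodule.span_le]
    rintro _ ⟨x, hx, rfl⟩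
    rw [SetLike.mem_coe, LinearMap.mem_ker, key, Submodule.mkQ_apply, (Submodule.Quotient.mk_eq_zero _).mpr hx,
      TensorProduct.tmul_zero]

/-- Right multiplication by a unit. -/
def rightMul (y : (R ⊗[k] A)ˣ) : R ⊗[k] A ≃ₗ[R] R ⊗[k] A :=
  LinearEquiv.ofLinearMap (LinearMap.mulRight R (y : R ⊗[k] A)) (LinearMap.mulRight R ((y⁻¹ : (R ⊗[k] A)ˣ) : R ⊗[k] A))
    (LinearMap.ext fun x => by simp [mul_assoc]) (LinearMap.ext fun x => by simp [mul_assoc])

@[simp] theorem rightMul_apply (y : (R ⊗[k] A)ˣ) (x : R ⊗[k] A) : rightMul y x = x * (y : R ⊗[k] A) := rfl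

variable {c : ℕ}

theorem sbSet_ext {N N' : BrSev.SBSet k A c R} (h : N.1.toSubmodule = N'.1.toSubmodule) : N = N' :=
  Subtype.ext (Module.Grassmannian.ext h)

/-- Base change of a left ideal with projective quotient, given with membership. -/
theorem mem_map_of_mem (φ : R →ₐ[k] S) (N : Module.Grassmannian R (R ⊗[k] A) c) {x : R ⊗[k] A}
    (hx : x ∈ N.toSubmodule) : bc φ x ∈ (Module.Grassmannian.map φ N).toSubmodule := by
  rw [map_toSubmodule_span]
  exact Submodule.subset_span ⟨x, hx, rfl⟩

/-- Right translate of a left ideal by a unit. -/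
def mulRight (N : BrSev.SBSet k A c R) (y : (R ⊗[k] A)ˣ) : BrSev.SBSet k A c R :=
  ⟨{ toSubmodule := N.1.toSubmodule.map (rightMul y : R ⊗[k] A →ₗ[R] R ⊗[k] A)
     finite_quotient := Module.Finite.equiv (Submodule.Quotient.equiv _ _ (rightMul y) rfl)
     projective_quotient := Module.Projective.of_equiv (Submodule.Quotient.equiv _ _ (rightMul y) rfl)
     rankAtStalk_eq := fun q => by
      rw [← Module.rankAtStalk_eq_of_equiv (Submodule.Quotient.equiv _ _ (rightMul y) rfl)]
      exact N.1.rankAtStalk_eq q }, by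
    rintro a _ ⟨z, hz, rfl⟩
    exact ⟨a * z, N.2 a z hz, by simp [mul_assoc]⟩⟩

theorem mulRight_toSubmodule (N : BrSev.SBSet k A c R) (y : (R ⊗[k] A)ˣ) :
    (mulRight N y).1.toSubmodule = N.1.toSubmodule.map (rightMul y : R ⊗[k] A →ₗ[R] R ⊗[k] A) := rfl

theorem mulRight_one (N : BrSev.SBSet k A c R) : mulRight N 1 = N := by
  refine sbSet_ext ?_
  have h : ((rightMul (1 : (R ⊗[k] A)ˣ)) : R ⊗[k] A →ₗ[R] R ⊗[k] A) = LinearMap.id :=
    LinearMap.ext fun x => by simp
  rw [mulRight_toSubmodule, h, Submodule.map_id]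

theorem mulRight_mulRight (N : BrSev.SBSet k A c R) (y y' : (R ⊗[k] A)ˣ) :
    mulRight (mulRight N y) y' = mulRight N (y * y') := by
  refine sbSet_ext ?_
  rw [mulRight_toSubmodule, mulRight_toSubmodule, mulRight_toSubmodule, ← Submodule.map_comp]
  congr 1
  exact LinearMap.ext fun x => by simp [mul_assoc]

/-- Scalars act trivially. -/
theorem mulRight_scalar (N : BrSev.SBSet k A c R) (y : (R ⊗[k] A)ˣ) (r : R)
    (hy : (y : R ⊗[k] A) = algebraMap R (R ⊗[k] A) r) : mulRight N y = N := by
  have key : ∀ (N : BrSev.SBSet k A c R) (y : (R ⊗[k] A)ˣ) (r : R),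
      (y : R ⊗[k] A) = algebraMap R (R ⊗[k] A) r → (mulRight N y).1.toSubmodule ≤ N.1.toSubmodule := by
    rintro N y r hy _ ⟨x, hx, rfl⟩
    rw [LinearEquiv.coe_coe, rightMul_apply, hy, ← Algebra.commutes, ← Algebra.smul_def]
    exact N.1.toSubmodule.smul_mem r hx
  refine sbSet_ext (le_antisymm (key N y r hy) ?_)
  intro x hx
  refine ⟨x * ((y⁻¹ : (R ⊗[k] A)ˣ) : R ⊗[k] A), ?_, by simp [mul_assoc]⟩
  have h1 : x * ((y⁻¹ : (R ⊗[k] A)ˣ) : R ⊗[k] A) = ((y⁻¹ : (R ⊗[k] A)ˣ) : R ⊗[k] A) * x := by
    rw [Units.eq_inv_mul_iff_mul_eq, ← mul_assoc, hy, Algebra.commutes r x, ← hy, Units.mul_inv_cancel_right]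
  rw [h1]
  exact N.2 _ _ hx

/-- Base change of elements of the functor. -/
def sbMap (φ : R →ₐ[k] S) (N : BrSev.SBSet k A c R) : BrSev.SBSet k A c S :=
  ⟨Module.Grassmannian.map φ N.1, by
    intro a x hx
    rw [map_toSubmodule_span] at hx ⊢
    induction a using TensorProduct.induction_on with
    | zero => simp
    | tmul s b =>
      have h : s ⊗ₜ[k] b = s • bc φ ((1 : R) ⊗ₜ[k] b) := by simp [TensorProduct.smul_tmul']
      rw [h, smul_mul_assoc]
      refine Submodule.smul_mem _ _ ?_
      induction hx using Submodule.span_induction with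
      | mem x hx =>
        obtain ⟨z, hz, rfl⟩ := hx
        rw [← map_mul]
        exact Submodule.subset_span ⟨_, N.2 _ z hz, rfl⟩
      | zero => simp
      | add x y _ _ hx hy => rw [mul_add]; exact add_mem hx hy
      | smul t x _ hx => rw [mul_smul_comm]; exact Submodule.smul_mem _ _ hx
    | add a b ha hb => rw [add_mul]; exact add_mem ha hb⟩

/-- Right multiplication commutes with base change. -/
theorem sbMap_mulRight (φ : R →ₐ[k] S) (N : BrSev.SBSet k A c R) (y : (R ⊗[k] A)ˣ) :
    sbMap φ (mulRight N y) = mulRight (sbMap φ N) (Units.map ((bc (A := A) φ) : R ⊗[k] A →* S ⊗[k] A) y) := by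
  refine sbSet_ext ?_
  show (Module.Grassmannian.map φ (mulRight N y).1).toSubmodule = _
  rw [mulRight_toSubmodule]
  show _ = Submodule.map _ (Module.Grassmannian.map φ N.1).toSubmodule
  rw [map_toSubmodule_span, map_toSubmodule_span, Submodule.map_span, mulRight_toSubmodule,
    Submodule.map_coe, Set.image_image, Set.image_image]
  congr 1
  exact Set.image_congr fun x _ => by simp

end Groth.Agent.SBAut
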