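import Groth.Agent.SBAut.Vectors
import Mathlib.RingTheory.Nullstellensatz
import Mathlib.RingTheory.MvPolynomial.Homogeneous
import Mathlib.RingTheory.Localization.AtPrime.Basic
import Mathlib.RingTheory.Localization.FractionRing
import Mathlib.RingTheory.UniqueFactorizationDomain.Basic
import Mathlib.RingTheory.Polynomial.UniqueFactorization
import Mathlib.Algebra.MvPolynomial.Division
import Mathlib.Algebra.MvPolynomial.NoZeroDivisors
import Mathlib.Algebra.MvPolynomial.Nilpotent
import Mathlib.LinearAlgebra.Matrix.ToLinearEquiv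

/-!
# Natural automorphisms of projective space on local rings are linear
-/

universe u

open MvPolynomial Matrix

noncomputable section

namespace Groth.Agent.SBAut

variable (K : Type u) [Field K] (n : ℕ)

/-- A natural map on unimodular vectors up to proportionality, over local algebras. -/
structure NatMap where
  /-- the map -/
  app : ∀ (R : Type u) [CommRing R] [IsLocalRing R] [Algebra K R], (Fin n → R) → (Fin n → R)
  uni : ∀ (R : Type u) [CommRing R] [IsLocalRing R] [Algebra K R] (v : Fin n → R), IsUni v → IsUni (app R v)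
  rel : ∀ (R : Type u) [CommRing R] [IsLocalRing R] [Algebra K R] (v v' : Fin n → R),
    IsUni v → IsUni v' → Rel v v' → Rel (app R v) (app R v')
  nat : ∀ (R S : Type u) [CommRing R] [IsLocalRing R] [Algebra K R] [CommRing S] [IsLocalRing S] [Algebra K S]
    (φ : R →ₐ[K] S) (v : Fin n → R), IsUni v → Rel (app S (φ ∘ v)) (φ ∘ app R v)

variable {K n}

abbrev Poly (K : Type u) [Field K] (n : ℕ) : Type u := MvPolynomial (Fin n) K

abbrev Frac (K : Type u) [Field K] (n : ℕ) : Type u := FractionRing (Poly K n)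

theorem rel_of_smul_left {R : Type u} [CommRing R] [IsDomain R] {v y : Fin n → R} {c : R} (hc : c ≠ 0)
    (h : Rel (c • v) y) : Rel v y := fun i j => by
  have := h i j
  simp only [Pi.smul_apply, smul_eq_mul, mul_assoc] at this
  exact mul_left_cancel₀ hc this

theorem Rel.of_map {R S : Type u} [CommRing R] [CommRing S] {φ : R →+* S} (hφ : Function.Injective φ)
    {v v' : Fin n → R} (h : Rel (φ ∘ v) (φ ∘ v')) : Rel v v' := fun i j => hφ (by
  simpa only [Function.comp_apply, ← map_mul] using h i j)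

theorem isUni_of_ne_zero {F : Type u} [Field F] {v : Fin n → F} {i : Fin n} (h : v i ≠ 0) : IsUni v :=
  isUni_of_isUnit (Ne.isUnit h)

/-- The complexity of a vector of polynomials. -/
def cplx (f : Fin n → Poly K n) : ℕ := ∑ i, (f i).totalDegree

theorem exists_minimal_rep {y : Fin n → Frac K n} (hy : IsUni y) :
    ∃ f : Fin n → Poly K n, (∃ i, f i ≠ 0) ∧ Rel (algebraMap (Poly K n) (Frac K n) ∘ f) y ∧
      ∀ g : Fin n → Poly K n, (∃ i, g i ≠ 0) → Rel (algebraMap (Poly K n) (Frac K n) ∘ g) y → cplx f ≤ cplx g := by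
  classical
  let S : Set (Fin n → Poly K n) := {f | (∃ i, f i ≠ 0) ∧ Rel (algebraMap (Poly K n) (Frac K n) ∘ f) y}
  have hS : S.Nonempty := by
    obtain ⟨b, hb⟩ := IsLocalization.exist_integer_multiples_of_finite (nonZeroDivisors (Poly K n)) y
    choose f hf using hb
    have hb0 : algebraMap (Poly K n) (Frac K n) (b : Poly K n) ≠ 0 :=
      (map_ne_zero_iff _ (IsFractionRing.injective _ _)).mpr (nonZeroDivisors.coe_ne_zero b)
    have hfy : algebraMap (Poly K n) (Frac K n) ∘ f = algebraMap (Poly K n) (Frac K n) (b : Poly K n) • y :=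
      funext fun i => by
        rw [Function.comp_apply, hf i, Pi.smul_apply, smul_eq_mul, ← Algebra.smul_def]
    refine ⟨f, ?_, rel_of_smul_eq hfy⟩
    obtain ⟨i, hi⟩ := hy.exists_ne_zero
    refine ⟨i, fun h0 => mul_ne_zero hb0 hi ?_⟩
    have := congrFun hfy i
    rw [Function.comp_apply, h0, map_zero, Pi.smul_apply, smul_eq_mul] at this
    exact this.symm
  obtain ⟨f, hf, hmin⟩ := exists_minimalFor_of_wellFoundedLT (· ∈ S) cplx hS
  exact ⟨f, hf.1, hf.2, fun g hg hg' => (le_total (cplx f) (cplx g)).elim id (fun h => hmin ⟨hg, hg'⟩ h)⟩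

theorem no_common_factor {y : Fin n → Frac K n} {f : Fin n → Poly K n} (hf : ∃ i, f i ≠ 0)
    (hy : Rel (algebraMap (Poly K n) (Frac K n) ∘ f) y)
    (hmin : ∀ g : Fin n → Poly K n, (∃ i, g i ≠ 0) → Rel (algebraMap (Poly K n) (Frac K n) ∘ g) y → cplx f ≤ cplx g)
    (p : Poly K n) (hp : Prime p) : ¬ ∀ i, p ∣ f i := by
  intro hdvd
  choose g hg using hdvd
  obtain ⟨i0, hi0⟩ := hf
  have hg0 : g i0 ≠ 0 := fun h => hi0 (by rw [hg i0, h, mul_zero])
  have hrel : Rel (algebraMap (Poly K n) (Frac K n) ∘ g) y := by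
    refine rel_of_smul_left ((map_ne_zero_iff _ (IsFractionRing.injective (Poly K n) (Frac K n))).mpr hp.ne_zero) ?_
    convert hy using 1
    funext i
    simp [hg i]
  have hpd : 0 < p.totalDegree := by
    by_contra h
    have h0 : p.totalDegree = 0 := by omega
    rw [totalDegree_eq_zero_iff_eq_C] at h0
    refine hp.not_unit ?_
    rw [h0]
    refine (Ne.isUnit ?_).map C
    intro hc
    exact hp.ne_zero (by rw [h0, hc, map_zero])
  have hle : ∀ i, (g i).totalDegree ≤ (f i).totalDegree := fun i => by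
    by_cases h : g i = 0
    · simp [h]
    · rw [hg i, totalDegree_mul_of_isDomain hp.ne_zero h]; omega
  have hlt : cplx g < cplx f := Finset.sum_lt_sum (fun i _ => hle i) ⟨i0, Finset.mem_univ _, by
    rw [hg i0, totalDegree_mul_of_isDomain hp.ne_zero hg0]; omega⟩
  exact absurd (hmin g ⟨i0, hg0⟩ hrel) (by omega)

/-- A minimal representative evaluates to the natural map at every unimodular vector of a local algebra. -/
theorem eval_rep (G : NatMap K n) (hn : 0 < n) {f : Fin n → Poly K n} (hf : ∃ i, f i ≠ 0)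
    (hrel : Rel (algebraMap (Poly K n) (Frac K n) ∘ f) (G.app (Frac K n) fun i => algebraMap (Poly K n) (Frac K n) (X i)))
    (hnc : ∀ p : Poly K n, Prime p → ¬ ∀ i, p ∣ f i)
    (R : Type u) [CommRing R] [IsLocalRing R] [Algebra K R] (a : Fin n → R) (ha : IsUni a) :
    IsUni (fun i => aeval a (f i)) ∧ Rel (G.app R a) fun i => aeval a (f i) := by
  classical
  let ε : Poly K n →ₐ[K] R := aeval a
  let q : Ideal (Poly K n) := (IsLocalRing.maximalIdeal R).comap ε.toRingHom
  haveI : q.IsPrime := Ideal.comap_isPrime _ _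
  obtain ⟨i1, hi1⟩ := ha.exists_isUnit
  have hX : X i1 ∉ q := by
    intro h
    have h' : aeval a (X i1 : Poly K n) ∈ IsLocalRing.maximalIdeal R := h
    rw [aeval_X, IsLocalRing.mem_maximalIdeal] at h'
    exact h' hi1
  let Pq := Localization.AtPrime q
  have hq0 : q.primeCompl ≤ nonZeroDivisors (Poly K n) := Ideal.primeCompl_le_nonZeroDivisors q
  have hψu : ∀ s : q.primeCompl, IsUnit (ε s) := fun s => by
    by_contra h
    exact s.2 ((IsLocalRing.mem_maximalIdeal _).mpr h)
  let ψ : Pq →ₐ[K] R := IsLocalization.liftAlgHom (M := q.primeCompl) (S := Pq) (f := ε) hψu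
  have hψ : ∀ g, ψ (algebraMap (Poly K n) Pq g) = ε g := fun g => by
    rw [IsLocalization.liftAlgHom_apply, IsLocalization.lift_eq]; rfl
  let e : Poly K n →ₐ[K] Frac K n := IsScalarTower.toAlgHom K (Poly K n) (Frac K n)
  have heu : ∀ s : q.primeCompl, IsUnit (e s) := fun s =>
    Ne.isUnit ((map_ne_zero_iff _ (IsFractionRing.injective (Poly K n) (Frac K n))).mpr
      (nonZeroDivisors.ne_zero (hq0 s.2)))
  let j : Pq →ₐ[K] Frac K n := IsLocalization.liftAlgHom (M := q.primeCompl) (S := Pq) (f := e) heu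
  have hj : ∀ g, j (algebraMap (Poly K n) Pq g) = algebraMap (Poly K n) (Frac K n) g := fun g => by
    rw [IsLocalization.liftAlgHom_apply, IsLocalization.lift_eq]; rfl
  have hPq : Function.Injective (algebraMap (Poly K n) Pq) := IsLocalization.injective Pq hq0
  have hjinj : Function.Injective j := by
    rw [injective_iff_map_eq_zero]
    intro z hz
    obtain ⟨⟨b, s⟩, hbs⟩ := IsLocalization.surj q.primeCompl z
    have : algebraMap (Poly K n) (Frac K n) b = 0 := by rw [← hj, ← hbs, map_mul, hz, zero_mul]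
    rw [map_eq_zero_iff _ (IsFractionRing.injective (Poly K n) (Frac K n))] at this
    simp only [this, map_zero] at hbs
    exact (IsLocalization.map_units Pq s).mul_left_eq_zero.mp hbs
  let xq : Fin n → Pq := fun i => algebraMap (Poly K n) Pq (X i)
  have hxq : IsUni xq := isUni_of_isUnit (i := i1)
    (IsLocalization.map_units (M := q.primeCompl) Pq ⟨X i1, hX⟩)
  have hxF : IsUni (fun i => algebraMap (Poly K n) (Frac K n) (X i)) :=
    isUni_of_ne_zero (i := i1) ((map_ne_zero_iff _ (IsFractionRing.injective _ _)).mpr (X_ne_zero i1))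
  let z := G.app Pq xq
  have hz : IsUni z := G.uni Pq xq hxq
  let fq : Fin n → Pq := fun i => algebraMap (Poly K n) Pq (f i)
  have hjx : j ∘ xq = fun i => algebraMap (Poly K n) (Frac K n) (X i) := funext fun i => hj _
  have hjf : j ∘ fq = algebraMap (Poly K n) (Frac K n) ∘ f := funext fun i => hj _
  have hfz : Rel fq z := by
    refine Rel.of_map (φ := (j : Pq →+* Frac K n)) hjinj ?_
    show Rel (j ∘ fq) (j ∘ z)
    rw [hjf]
    refine hrel.trans (G.uni _ _ hxF) ?_
    rw [← hjx]
    exact G.nat Pq (Frac K n) j xq hxq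
  obtain ⟨w, hw⟩ := hz
  set c := ∑ i, w i * fq i with hcdef
  have hfc : fq = c • z := hfz.eq_smul hw
  have hcu : IsUnit c := by
    by_contra hc
    obtain ⟨⟨b, s⟩, hbs⟩ := IsLocalization.surj q.primeCompl c
    have hbq : b ∈ q := by
      by_contra hb
      have : IsUnit (c * algebraMap (Poly K n) Pq s) := hbs ▸ IsLocalization.map_units (M := q.primeCompl) Pq ⟨b, hb⟩
      exact hc (IsUnit.mul_iff.mp this).1
    have hb0 : b ≠ 0 := by
      rintro rfl
      rw [map_zero, (IsLocalization.map_units Pq s).mul_left_eq_zero] at hbs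
      obtain ⟨i0, hi0⟩ := hf
      refine hi0 (hPq ?_)
      rw [map_zero]
      show fq i0 = 0
      rw [hfc, hbs, zero_smul]; rfl
    obtain ⟨m, hm, hmb⟩ := UniqueFactorizationMonoid.exists_prime_factors b hb0
    have hmq : m.prod ∈ q := Ideal.mem_of_dvd _ hmb.symm.dvd hbq
    obtain ⟨p, hpm, hpq⟩ := (Ideal.IsPrime.multiset_prod_mem_iff_exists_mem inferInstance m).mp hmq
    refine hnc p (hm p hpm) fun i => ?_
    obtain ⟨⟨d, t⟩, hdt⟩ := IsLocalization.surj q.primeCompl (z i)
    have h1 : f i * ((s : Poly K n) * t) = b * d := by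
      apply hPq
      simp only [map_mul]
      show fq i * _ = _
      rw [hfc, Pi.smul_apply, smul_eq_mul, ← hbs, ← hdt]
      ring
    have hpb : p ∣ b := (Multiset.dvd_prod hpm).trans hmb.dvd
    have h2 : p ∣ f i * ((s : Poly K n) * t) := h1 ▸ hpb.mul_right d
    refine ((hm p hpm).dvd_or_dvd h2).resolve_right fun h3 => ?_
    exact (mul_mem s.2 t.2 : (s : Poly K n) * t ∈ q.primeCompl) (Ideal.mem_of_dvd _ h3 hpq)
  obtain ⟨cu, hcu'⟩ := hcu
  have hfu : IsUni fq := by
    refine ⟨((cu⁻¹ : Pqˣ) : Pq) • w, ?_⟩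
    calc ∑ i, (((cu⁻¹ : Pqˣ) : Pq) • w) i * fq i = ((cu⁻¹ : Pqˣ) : Pq) * (cu : Pq) := by
          rw [hcu', hcdef, Finset.mul_sum]
          exact Finset.sum_congr rfl fun i _ => by simp only [Pi.smul_apply, smul_eq_mul]; ring
      _ = 1 := cu.inv_mul
  have hψf : (fun i => aeval a (f i)) = ψ ∘ fq := funext fun i => (hψ _).symm
  have hψx : ψ ∘ xq = a := funext fun i => by
    show ψ (algebraMap (Poly K n) Pq (X i)) = a i
    rw [hψ]; exact aeval_X a i
  rw [hψf]
  refine ⟨hfu.map ψ, ?_⟩
  have h4 := G.nat Pq R ψ xq hxq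
  rw [hψx] at h4
  exact h4.trans ((G.uni Pq xq hxq).map ψ) (hfz.symm.map ψ)

/-- Scaling all variables by a parameter. -/
def scale : Poly K n →ₐ[K] Polynomial (Poly K n) := aeval fun i => Polynomial.X * Polynomial.C (X i)

theorem scale_coeff (g : Poly K n) (d : ℕ) : (scale g).coeff d = homogeneousComponent d g := by
  classical
  induction g using MvPolynomial.induction_on' with
  | monomial e r =>
    have h : scale (monomial e r) = Polynomial.C (monomial e r) * Polynomial.X ^ e.degree := by
      rw [scale, aeval_monomial, monomial_eq, map_mul]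
      simp only [Finsupp.prod, map_prod, map_pow, mul_pow, Finset.prod_mul_distrib, Finset.prod_pow_eq_pow_sum,
        Finsupp.degree]
      rw [show algebraMap K (Polynomial (Poly K n)) r = Polynomial.C (C r) from rfl]
      simp only [AddMonoidHom.coe_mk, ZeroHom.coe_mk]
      ring
    rw [h, Polynomial.coeff_C_mul_X_pow,
      homogeneousComponent_of_mem ((mem_homogeneousSubmodule _ _).mpr (isHomogeneous_monomial r rfl))]
  | add p q hp hq => simp [hp, hq]

theorem exists_rep (G : NatMap K n) (hn : 0 < n) :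
    ∃ (f : Fin n → Poly K n) (d : ℕ), (∀ i, (f i).IsHomogeneous d) ∧ (∃ i, f i ≠ 0) ∧
      ∀ (R : Type u) [CommRing R] [IsLocalRing R] [Algebra K R] (a : Fin n → R), IsUni a →
        IsUni (fun i => aeval a (f i)) ∧ Rel (G.app R a) fun i => aeval a (f i) := by
  classical
  let i0 : Fin n := ⟨0, hn⟩
  let xF : Fin n → Frac K n := fun i => algebraMap (Poly K n) (Frac K n) (X i)
  have hxF : IsUni xF := isUni_of_ne_zero (i := i0) ((map_ne_zero_iff _ (IsFractionRing.injective _ _)).mpr (X_ne_zero i0))
  obtain ⟨f, hf, hrel, hmin⟩ := exists_minimal_rep (G.uni _ _ hxF)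
  have hev := fun (R : Type u) [CommRing R] [IsLocalRing R] [Algebra K R] (a : Fin n → R) (ha : IsUni a) =>
    eval_rep G hn hf hrel (fun p hp => no_common_factor hf hrel hmin p hp) R a ha
  obtain ⟨j, hj⟩ := hf
  let L := FractionRing (Polynomial (Poly K n))
  let γ : Polynomial (Poly K n) →ₐ[K] L := IsScalarTower.toAlgHom K _ L
  have hγ : Function.Injective γ := IsFractionRing.injective _ _
  let ι : Poly K n →ₐ[K] L := γ.comp ((Polynomial.CAlgHom (R := Poly K n)).restrictScalars K)
  let xL : Fin n → L := fun i => ι (X i)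
  let aL : Fin n → L := fun i => γ (scale (X i))
  have hιX : ∀ i, xL i ≠ 0 := fun i => by
    show γ (Polynomial.C (X i)) ≠ 0
    simpa [map_eq_zero_iff _ hγ] using (X_ne_zero (R := K) i)
  have haX : ∀ i, aL i = γ Polynomial.X * xL i := fun i => by
    show γ (scale (X i)) = _
    rw [scale, aeval_X, map_mul]; rfl
  have hxL : IsUni xL := isUni_of_ne_zero (hιX i0)
  have haL : IsUni aL := isUni_of_ne_zero (i := i0) (by
    rw [haX]; exact mul_ne_zero ((map_ne_zero_iff _ hγ).mpr Polynomial.X_ne_zero) (hιX i0))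
  have hax : Rel aL xL := rel_of_smul_eq (funext fun i => haX i)
  obtain ⟨hu1, hr1⟩ := hev L aL haL
  obtain ⟨hu2, hr2⟩ := hev L xL hxL
  have hkey : Rel (fun i => aeval aL (f i)) fun i => aeval xL (f i) :=
    (hr1.symm.trans (G.uni _ _ haL) (G.rel L aL xL haL hxL hax)).trans (G.uni _ _ hxL) hr2
  have hea : ∀ g, aeval aL g = γ (scale g) := fun g => by
    have : aeval aL = γ.comp (scale (K := K) (n := n)) := algHom_ext fun i => by simp [aL]
    rw [this]; rfl
  have hex : ∀ g, aeval xL g = γ (Polynomial.C g) := fun g => by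
    have : aeval xL = ι := algHom_ext fun i => by simp [xL]
    rw [this]; rfl
  have hco : ∀ d i i', homogeneousComponent d (f i) * f i' = homogeneousComponent d (f i') * f i := by
    intro d i i'
    have h := hkey i i'
    simp only [hea, hex, ← map_mul] at h
    have h' := congrArg (fun P => Polynomial.coeff P d) (hγ h)
    simpa [Polynomial.coeff_mul_C, scale_coeff] using h'
  let S : Set ℕ := {d | homogeneousComponent d (f j) ≠ 0}
  have hS : S.Nonempty := by
    by_contra h
    refine hj ?_
    rw [← sum_homogeneousComponent (f j)]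
    exact Finset.sum_eq_zero fun d _ => by_contra fun hd => h ⟨d, hd⟩
  let d := Nat.find hS
  have hd : homogeneousComponent d (f j) ≠ 0 := Nat.find_spec hS
  let h : Fin n → Poly K n := fun i => homogeneousComponent d (f i)
  have hhrel : Rel (algebraMap (Poly K n) (Frac K n) ∘ h) (G.app (Frac K n) xF) := by
    have h1 : Rel h f := fun a b => hco d a b
    refine Rel.trans (v := algebraMap (Poly K n) (Frac K n) ∘ f) ?_ (h1.map _) hrel
    exact isUni_of_ne_zero (i := j) ((map_ne_zero_iff _ (IsFractionRing.injective _ _)).mpr hj)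
  have hle : ∀ i, (h i).totalDegree ≤ (f i).totalDegree := fun i => by
    by_cases hz : h i = 0
    · simp [hz]
    · have := (homogeneousComponent_isHomogeneous d (f i)).totalDegree hz
      show (homogeneousComponent d (f i)).totalDegree ≤ _
      rw [this]
      by_contra hlt
      exact hz (homogeneousComponent_eq_zero d (f i) (not_le.mp hlt))
  have heq : ∀ i, (h i).totalDegree = (f i).totalDegree := by
    intro i
    refine le_antisymm (hle i) (not_lt.mp fun hlt => ?_)
    have : cplx h < cplx f := Finset.sum_lt_sum (fun i _ => hle i) ⟨i, Finset.mem_univ _, hlt⟩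
    exact absurd (hmin h ⟨j, hd⟩ hhrel) (not_le.mpr this)
  have hjd : (f j).totalDegree = d := by
    rw [← heq j]; exact (homogeneousComponent_isHomogeneous d (f j)).totalDegree hd
  have hjhom : homogeneousComponent d (f j) = f j := by
    conv_rhs => rw [← sum_homogeneousComponent (f j), hjd]
    rw [Finset.sum_range_succ, Finset.sum_eq_zero, zero_add]
    intro e he
    by_contra hne
    exact Nat.find_min hS (Finset.mem_range.mp he) hne
  refine ⟨f, d, fun i => ?_, ⟨j, hj⟩, hev⟩
  have := hco d i j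
  rw [hjhom, mul_comm (f j)] at this
  rw [← mul_right_cancel₀ hj this]
  exact homogeneousComponent_isHomogeneous d (f i)

theorem exists_eq_mul_X (hn : 2 ≤ n) {h : Fin n → Poly K n} (hh : ∀ i j, h i * X j = h j * X i) :
    ∃ c, ∀ i, h i = c * X i := by
  let i0 : Fin n := ⟨0, by omega⟩
  let i1 : Fin n := ⟨1, by omega⟩
  have h01 : ¬ (X i0 : Poly K n) ∣ X i1 := by
    rintro ⟨q, hq⟩
    have := congrArg (aeval (Pi.single i1 (1 : K))) hq
    simp [i0, i1, Fin.ext_iff] at this
  have : (X i0 : Poly K n) ∣ h i0 := by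
    refine ((X_prime (i := i0)).dvd_or_dvd ?_).resolve_right h01
    exact ⟨h i1, by rw [hh i0 i1, mul_comm]⟩
  obtain ⟨c, hc⟩ := this
  refine ⟨c, fun i => mul_right_cancel₀ (X_ne_zero i0) ?_⟩
  rw [hh i i0, hc]; ring

/-- A homogeneous polynomial of degree one is a linear form. -/
theorem eq_linear {g : Poly K n} (hg : g.IsHomogeneous 1) : g = ∑ j, C (coeff (Finsupp.single j 1) g) * X j := by
  classical
  ext e
  rw [coeff_sum]
  by_cases he : e.degree = 1
  · have he' : e ∈ Set.range fun a : Fin n => Finsupp.single a 1 := by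
      rw [Finsupp.range_single_one]; exact he
    obtain ⟨a, rfl⟩ := he'
    rw [Finset.sum_eq_single a (fun b _ hb => by simp [coeff_C_mul, coeff_X', Finsupp.single_eq_single_iff, hb])
      (by simp)]
    simp [coeff_C_mul]
  · rw [hg.coeff_eq_zero he, Finset.sum_eq_zero]
    intro b _
    rw [coeff_C_mul, coeff_X', if_neg, mul_zero]
    rintro rfl
    simp at he

/-- Inverse pairs of natural maps are linear. -/
theorem exists_matrix [IsAlgClosed K] (G G' : NatMap K n)
    (hinv : ∀ (R : Type u) [CommRing R] [IsLocalRing R] [Algebra K R] (v : Fin n → R), IsUni v →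
      Rel (G'.app R (G.app R v)) v) :
    ∃ M : Matrix (Fin n) (Fin n) K, IsUnit M.det ∧
      ∀ (R : Type u) [CommRing R] [IsLocalRing R] [Algebra K R] (v : Fin n → R), IsUni v →
        Rel (G.app R v) (v ᵥ* M.map (algebraMap K R)) := by
  classical
  rcases Nat.lt_or_ge n 2 with hn | hn
  · refine ⟨1, by simp, fun R _ _ _ v _ i j => ?_⟩
    obtain rfl : i = j := Fin.ext (by omega)
    rfl
  obtain ⟨f, d, hd, hf0, hev⟩ := exists_rep G (by omega)
  obtain ⟨f', d', hd', hf0', hev'⟩ := exists_rep G' (by omega)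
  let h : Fin n → Poly K n := fun i => aeval f (f' i)
  have hh : ∀ (R : Type u) [CommRing R] [IsLocalRing R] [Algebra K R] (a : Fin n → R), IsUni a →
      IsUni (fun i => aeval a (h i)) ∧ Rel (fun i => aeval a (h i)) a := by
    intro R _ _ _ a ha
    obtain ⟨hu, hr⟩ := hev R a ha
    obtain ⟨hu', hr'⟩ := hev' R _ hu
    have heq : (fun i => aeval a (h i)) = fun i => aeval (fun l => aeval a (f l)) (f' i) :=
      funext fun i => (comp_aeval_apply f (aeval a) (f' i))
    rw [heq]
    exact ⟨hu', (hr'.symm.trans (G'.uni _ _ hu) (G'.rel R _ _ hu (G.uni _ _ ha) hr.symm)).trans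
      (G'.uni _ _ (G.uni _ _ ha)) (hinv R a ha)⟩
  let i0 : Fin n := ⟨0, by omega⟩
  let i1 : Fin n := ⟨1, by omega⟩
  have hrelP : ∀ i j, h i * X j = h j * X i := by
    intro i j
    have hxF : IsUni (fun i => algebraMap (Poly K n) (Frac K n) (X i)) :=
      isUni_of_ne_zero (i := i0) ((map_ne_zero_iff _ (IsFractionRing.injective _ _)).mpr (X_ne_zero i0))
    have h1 := (hh (Frac K n) _ hxF).2 i j
    have he : ∀ g, aeval (fun i => algebraMap (Poly K n) (Frac K n) (X i)) g = algebraMap (Poly K n) (Frac K n) g :=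
      fun g => by
        have : aeval (fun i => algebraMap (Poly K n) (Frac K n) (X i)) = IsScalarTower.toAlgHom K (Poly K n) (Frac K n) :=
          algHom_ext fun i => by simp
        rw [this]; rfl
    simp only [he, ← map_mul] at h1
    exact IsFractionRing.injective _ _ h1
  obtain ⟨c, hc⟩ := exists_eq_mul_X hn hrelP
  have hcnz : ∀ a : Fin n → K, a ≠ 0 → aeval a c ≠ 0 := by
    intro a ha h0
    obtain ⟨i, hi⟩ := Function.ne_iff.mp ha
    obtain ⟨j, hj⟩ := (hh K a (isUni_of_ne_zero hi)).1.exists_ne_zero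
    refine hj ?_
    show aeval a (h j) = 0
    rw [hc, map_mul, h0, zero_mul]
  have hc0 : c ≠ 0 := fun h0 => hcnz (Pi.single i0 1) (by simp) (by simp [h0])
  have hcu : IsUnit c := by
    by_contra hnu
    obtain ⟨p, hpm⟩ := UniqueFactorizationMonoid.exists_mem_factors hc0 hnu
    have hp := UniqueFactorizationMonoid.prime_of_factor p hpm
    have hpc := UniqueFactorizationMonoid.dvd_of_mem_factors hpm
    have hzero : ∀ a ∈ zeroLocus K (Ideal.span {p}), a = 0 := by
      intro a ha
      by_contra hne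
      refine hcnz a hne ?_
      obtain ⟨q, rfl⟩ := hpc
      rw [map_mul, (mem_zeroLocus_iff.mp ha) p (Ideal.subset_span rfl), zero_mul]
    have hX : ∀ i, p ∣ X i := by
      intro i
      haveI := (Ideal.span_singleton_prime hp.ne_zero).mpr hp
      rw [← Ideal.mem_span_singleton, ← IsPrime.vanishingIdeal_zeroLocus (K := K) (Ideal.span {p}),
        mem_vanishingIdeal_iff]
      intro a ha
      simp [hzero a ha]
    have h2 : (X i0 : Poly K n) ∣ X i1 :=
      ((hp.irreducible.associated_of_dvd (X_prime (i := i0)).irreducible (hX i0)).symm.dvd).trans (hX i1)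
    obtain ⟨q, hq⟩ := h2
    have := congrArg (aeval (Pi.single i1 (1 : K))) hq
    simp [i0, i1, Fin.ext_iff] at this
  obtain ⟨r, hr, hcr⟩ := isUnit_iff_eq_C_of_isReduced.mp hcu
  have hd1 : d = 1 := by
    have h1 : (h i0).IsHomogeneous (d * d') := (hd' i0).aeval f hd
    have h2 : (h i0).IsHomogeneous 1 := by
      rw [hc, hcr]; exact (isHomogeneous_X K i0).C_mul r
    have h3 : h i0 ≠ 0 := by rw [hc]; exact mul_ne_zero hc0 (X_ne_zero _)
    exact (Nat.eq_one_of_mul_eq_one_right (h1.inj_right h2 h3))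
  subst hd1
  let M : Matrix (Fin n) (Fin n) K := fun j i => coeff (Finsupp.single j 1) (f i)
  have hM : ∀ (R : Type u) [CommRing R] [Algebra K R] (a : Fin n → R),
      (fun i => aeval a (f i)) = a ᵥ* M.map (algebraMap K R) := by
    intro R _ _ a
    funext i
    conv_lhs => rw [eq_linear (hd i)]
    simp only [map_sum, map_mul, aeval_C, aeval_X, Matrix.vecMul, dotProduct, Matrix.map_apply, M]
    exact Finset.sum_congr rfl fun j _ => mul_comm _ _
  refine ⟨M, ?_, fun R _ _ _ v hv => ?_⟩
  · rw [isUnit_iff_ne_zero]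
    intro hdet
    obtain ⟨a, ha, ha'⟩ := Matrix.exists_vecMul_eq_zero_iff.mpr hdet
    obtain ⟨i, hi⟩ := Function.ne_iff.mp ha
    obtain ⟨l, hl⟩ := (hev K a (isUni_of_ne_zero hi)).1.exists_ne_zero
    refine hl ?_
    have := congrFun (hM K a) l
    rw [this, show M.map (algebraMap K K) = M from rfl, ha']
    rfl
  · rw [← hM]
    exact (hev R v hv).2

end Groth.Agent.SBAut
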