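import Groth.Agent.SBAut.Ideals
import Groth.Agent.SBAut.Linear

/-!
# Natural automorphisms of the left ideal functor over a splitting field
-/

universe u

open Matrix
open scoped TensorProduct

noncomputable section

namespace Groth.Agent.SBAut

variable {k : Type u} [Field k] {A : Type u} [Ring A] [Algebra k A] {K : Type u} [Field K] [Algebra k K]
  {n : ℕ} (Φ : K ⊗[k] A ≃ₐ[K] Matrix (Fin n) (Fin n) K)
  (R : Type u) [CommRing R] [Algebra k R] [Algebra K R] [IsScalarTower k K R]

/-- The splitting over an algebra over the splitting field, as a map. -/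
def splitHom : R ⊗[k] A →ₐ[R] Matrix (Fin n) (Fin n) R :=
  Algebra.TensorProduct.lift (Algebra.ofId R _)
    ((AlgHom.mapMatrix (IsScalarTower.toAlgHom k K R)).comp
      ((Φ.toAlgHom.restrictScalars k).comp Algebra.TensorProduct.includeRight))
    fun r a => Algebra.commutes r _

theorem splitHom_tmul (r : R) (a : A) :
    splitHom Φ R (r ⊗ₜ[k] a) = r • (Φ (1 ⊗ₜ[k] a)).map (algebraMap K R) := by
  rw [splitHom, Algebra.TensorProduct.lift_tmul, Algebra.ofId_apply, ← Algebra.smul_def]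
  rfl

theorem splitHom_bc (x : K ⊗[k] A) :
    splitHom Φ R (bc (IsScalarTower.toAlgHom k K R) x) = (Φ x).map (algebraMap K R) := by
  induction x using TensorProduct.induction_on with
  | zero => simp
  | tmul c a =>
    rw [bc_tmul, splitHom_tmul]
    have h : c ⊗ₜ[k] a = c • ((1 : K) ⊗ₜ[k] a) := by simp [TensorProduct.smul_tmul']
    conv_rhs => rw [h, map_smul]
    refine Matrix.ext fun i j => ?_
    simp [Matrix.map_apply]
  | add x y hx hy =>
    rw [map_add, map_add, hx, hy, map_add]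
    refine Matrix.ext fun i j => ?_
    simp

theorem splitHom_bijective (hA : Module.finrank k A = n * n) (hn : 0 < n) :
    Function.Bijective (splitHom Φ R) := by
  classical
  haveI : Module.Finite k A := Module.finite_of_finrank_pos (by rw [hA]; positivity)
  have hsurj : Function.Surjective (splitHom Φ R) := by
    intro M
    refine ⟨∑ i, ∑ j, M i j • bc (IsScalarTower.toAlgHom k K R) (Φ.symm (Matrix.single i j (1 : K))), ?_⟩
    simp only [map_sum, map_smul, splitHom_bc, AlgEquiv.apply_symm_apply, Matrix.map_single, map_one]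
    conv_rhs => rw [Matrix.matrix_eq_sum_single M]
    simp
  let b := Algebra.TensorProduct.basis R (Module.finBasisOfFinrankEq k A hA)
  let e : R ⊗[k] A ≃ₗ[R] Matrix (Fin n) (Fin n) R :=
    b.equiv ((Matrix.stdBasis R (Fin n) (Fin n))) (finProdFinEquiv.symm)
  refine ⟨?_, hsurj⟩
  have h : Function.Injective (e.symm.toLinearMap.comp (splitHom Φ R).toLinearMap) :=
    OrzechProperty.injective_of_surjective_endomorphism _ (e.symm.surjective.comp hsurj)
  exact fun x y hxy => h (congrArg e.symm hxy)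

/-- The splitting over an algebra over the splitting field. -/
def split (hA : Module.finrank k A = n * n) (hn : 0 < n) : R ⊗[k] A ≃ₐ[R] Matrix (Fin n) (Fin n) R :=
  AlgEquiv.ofBijective (splitHom Φ R) (splitHom_bijective Φ R hA hn)

variable {R} (hA : Module.finrank k A = n * n) (hn : 0 < n)

theorem splitHom_bc_map {S : Type u} [CommRing S] [Algebra k S] [Algebra K S] [IsScalarTower k K S]
    (φ : R →ₐ[K] S) (x : R ⊗[k] A) :
    splitHom Φ S (bc (φ.restrictScalars k) x) = (splitHom Φ R x).map φ := by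
  induction x using TensorProduct.induction_on with
  | zero => simp
  | tmul r a =>
    rw [bc_tmul, splitHom_tmul, splitHom_tmul]
    refine Matrix.ext fun i j => ?_
    simp [Matrix.map_apply]
  | add x y hx hy =>
    rw [map_add, map_add, hx, hy, map_add]
    refine Matrix.ext fun i j => ?_
    simp

variable [IsLocalRing R]

/-- The left ideal attached to a unimodular vector. -/
def vecPt (v : Fin n → R) (hv : IsUni v) : BrSev.SBSet k A (n * n - n) R :=
  have hmap : ((rowIdeal v).comap ((split Φ R hA hn).toLinearEquiv : R ⊗[k] A →ₗ[R] Matrix (Fin n) (Fin n) R)).map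
      ((split Φ R hA hn).toLinearEquiv : R ⊗[k] A →ₗ[R] Matrix (Fin n) (Fin n) R) = rowIdeal v :=
    Submodule.map_comap_eq_of_surjective (split Φ R hA hn).toLinearEquiv.surjective _
  ⟨{ toSubmodule := (rowIdeal v).comap ((split Φ R hA hn).toLinearEquiv : R ⊗[k] A →ₗ[R] Matrix (Fin n) (Fin n) R)
     finite_quotient := by
      haveI := (rowIdeal_quotient hv).1
      exact Module.Finite.equiv (Submodule.Quotient.equiv _ _ (split Φ R hA hn).toLinearEquiv hmap).symm
     projective_quotient := by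
      haveI := (rowIdeal_quotient hv).2.1
      exact Module.Projective.of_equiv (Submodule.Quotient.equiv _ _ (split Φ R hA hn).toLinearEquiv hmap).symm
     rankAtStalk_eq := fun q => by
      haveI := (rowIdeal_quotient hv).2.1
      rw [Module.rankAtStalk_eq_of_equiv (Submodule.Quotient.equiv _ _ (split Φ R hA hn).toLinearEquiv hmap),
        Module.rankAtStalk_eq_finrank_of_free, (rowIdeal_quotient hv).2.2]
      simp }, by
    intro a x hx
    show split Φ R hA hn (a * x) ∈ rowIdeal v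
    rw [map_mul]
    exact mul_mem_rowIdeal _ hx⟩

theorem mem_vecPt {v : Fin n → R} (hv : IsUni v) (x : R ⊗[k] A) :
    x ∈ (vecPt Φ hA hn v hv).1.toSubmodule ↔ splitHom Φ R x ∈ rowIdeal v := Iff.rfl

theorem vecPt_eq_iff {v v' : Fin n → R} (hv : IsUni v) (hv' : IsUni v') :
    vecPt Φ hA hn v hv = vecPt Φ hA hn v' hv' ↔ Rel v v' := by
  rw [← rowIdeal_eq_iff hv hv']
  refine ⟨fun h => ?_, fun h => sbSet_ext ?_⟩
  · ext M
    obtain ⟨x, rfl⟩ := (splitHom_bijective Φ R hA hn).2 M
    rw [← mem_vecPt Φ hA hn hv, ← mem_vecPt Φ hA hn hv', h]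
  · ext x
    rw [mem_vecPt, mem_vecPt, h]

theorem exists_vecPt (N : BrSev.SBSet k A (n * n - n) R) :
    ∃ v : Fin n → R, ∃ hv : IsUni v, vecPt Φ hA hn v hv = N := by
  set e := (split Φ R hA hn).toLinearEquiv
  let N' : Submodule R (Matrix (Fin n) (Fin n) R) := N.1.toSubmodule.map (e : R ⊗[k] A →ₗ[R] _)
  let q := Submodule.Quotient.equiv N.1.toSubmodule N' e rfl
  haveI : Module.Projective R (Matrix (Fin n) (Fin n) R ⧸ N') := Module.Projective.of_equiv q
  haveI : Module.Free R ((R ⊗[k] A) ⧸ N.1.toSubmodule) := Module.free_of_flat_of_isLocalRing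
  have hrk : Module.finrank R (Matrix (Fin n) (Fin n) R ⧸ N') = n * n - n := by
    rw [← q.finrank_eq]
    have := N.1.rankAtStalk_eq (IsLocalRing.closedPoint R)
    rw [Module.rankAtStalk_eq_finrank_of_free] at this
    simpa using this
  obtain ⟨v, hv, hN⟩ := exists_rowIdeal hn N' (by
    rintro a _ ⟨x, hx, rfl⟩
    obtain ⟨a', rfl⟩ := (splitHom_bijective Φ R hA hn).2 a
    exact ⟨a' * x, N.2 a' x hx, map_mul (splitHom Φ R) a' x⟩) hrk
  refine ⟨v, hv, sbSet_ext ?_⟩
  ext x
  rw [mem_vecPt, ← hN]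
  exact ⟨fun ⟨y, hy, he⟩ => (e.injective he : y = x) ▸ hy, fun h => ⟨x, h, rfl⟩⟩

theorem vecPt_mulRight {v : Fin n → R} (hv : IsUni v) (y : (R ⊗[k] A)ˣ) :
    ∃ hv' : IsUni (v ᵥ* splitHom Φ R y),
      mulRight (vecPt Φ hA hn v hv) y = vecPt Φ hA hn (v ᵥ* splitHom Φ R y) hv' := by
  have h1 : splitHom Φ R (y : R ⊗[k] A) * splitHom Φ R ((y⁻¹ : (R ⊗[k] A)ˣ) : R ⊗[k] A) = 1 := by
    rw [← map_mul, Units.mul_inv, map_one]
  have hv' := hv.vecMul _ _ h1
  refine ⟨hv', sbSet_ext (Submodule.ext fun x => ?_)⟩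
  rw [mem_vecPt, mulRight_toSubmodule]
  constructor
  · rintro ⟨z, hz, rfl⟩
    rw [LinearEquiv.coe_coe, rightMul_apply, map_mul]
    exact (mul_mem_rowIdeal_iff hv _ _ h1 _).mpr hz
  · intro hx
    refine ⟨x * ((y⁻¹ : (R ⊗[k] A)ˣ) : R ⊗[k] A), (mul_mem_rowIdeal_iff hv _ _ h1 _).mp ?_, by simp [mul_assoc]⟩
    show splitHom Φ R (x * ((y⁻¹ : (R ⊗[k] A)ˣ) : R ⊗[k] A)) * splitHom Φ R (y : R ⊗[k] A) ∈ _
    rw [← map_mul, Units.inv_mul_cancel_right]
    exact hx

theorem sbMap_vecPt {S : Type u} [CommRing S] [Algebra k S] [Algebra K S] [IsScalarTower k K S] [IsLocalRing S]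
    (φ : R →ₐ[K] S) {v : Fin n → R} (hv : IsUni v) :
    sbMap (φ.restrictScalars k) (vecPt Φ hA hn v hv) = vecPt Φ hA hn (φ ∘ v) (hv.map φ) := by
  obtain ⟨v', hv', h⟩ := exists_vecPt Φ hA hn (sbMap (φ.restrictScalars k) (vecPt Φ hA hn v hv))
  rw [← h, vecPt_eq_iff]
  obtain ⟨x, hx⟩ := (splitHom_bijective Φ R hA hn).2 (Matrix.of fun _ => v)
  have hmem : bc (φ.restrictScalars k) x ∈ (sbMap (φ.restrictScalars k) (vecPt Φ hA hn v hv)).1.toSubmodule :=
    mem_map_of_mem _ _ ((mem_vecPt Φ hA hn hv x).mpr (by rw [hx]; exact fun _ => Rel.refl v))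
  rw [← h, mem_vecPt, splitHom_bc_map, hx] at hmem
  have := (hmem ⟨0, hn⟩).symm
  exact this

/-- A unit acting trivially is scalar. -/
theorem scalar_of_forall_mulRight (y : (R ⊗[k] A)ˣ) (hA : Module.finrank k A = n * n) (hn : 0 < n)
    (h : ∀ N : BrSev.SBSet k A (n * n - n) R, mulRight N y = N)
    (Φ : K ⊗[k] A ≃ₐ[K] Matrix (Fin n) (Fin n) K) :
    ∃ r : R, (y : R ⊗[k] A) = algebraMap R (R ⊗[k] A) r := by
  classical
  set Y := splitHom Φ R (y : R ⊗[k] A) with hY
  have key : ∀ v : Fin n → R, IsUni v → Rel (v ᵥ* Y) v := by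
    intro v hv
    obtain ⟨hv', h'⟩ := vecPt_mulRight Φ hA hn hv y
    rw [h (vecPt Φ hA hn v hv)] at h'
    exact ((vecPt_eq_iff Φ hA hn hv hv').mp h').symm
  let i0 : Fin n := ⟨0, hn⟩
  have hoff : ∀ i a, a ≠ i → Y i a = 0 := by
    intro i a ha
    have := key (Pi.single i 1) (isUni_of_isUnit (i := i) (by simp)) a i
    simpa [Matrix.single_one_vecMul, ha] using this
  have hdiag : ∀ i, Y i i = Y i0 i0 := by
    intro i
    by_cases hi : i = i0
    · rw [hi]
    have := key (Pi.single i 1 + Pi.single i0 1) (isUni_of_isUnit (i := i) (by simp [hi])) i i0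
    simpa [Matrix.add_vecMul, Matrix.single_one_vecMul, hi, Ne.symm hi, hoff i i0 (Ne.symm hi), hoff i0 i hi] using this
  refine ⟨Y i0 i0, (splitHom_bijective Φ R hA hn).1 ?_⟩
  rw [AlgHom.commutes, ← hY, Algebra.algebraMap_eq_smul_one]
  refine Matrix.ext fun i a => ?_
  by_cases ha : a = i
  · subst ha; simp [hdiag]
  · simp [hoff i a ha, Matrix.one_apply_ne (Ne.symm ha)]

end Groth.Agent.SBAut
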