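import Mathlib.LinearAlgebra.Matrix.NonsingularInverse
import Mathlib.LinearAlgebra.FreeModule.Finite.Basic
import Mathlib.LinearAlgebra.Dimension.Constructions
import Mathlib.RingTheory.LocalRing.Module
import Mathlib.RingTheory.Flat.Rank
import Mathlib.Algebra.Module.Projective

/-!
# Unimodular vectors and rank one left ideals of matrix algebras
-/

universe u

open Matrix

noncomputable section

namespace Groth.Agent.SBAut

variable {R : Type u} [CommRing R] {n : ℕ}

/-- Proportionality of vectors. -/
def Rel (v v' : Fin n → R) : Prop := ∀ i j, v i * v' j = v j * v' i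

/-- Unimodular vectors. -/
def IsUni (v : Fin n → R) : Prop := ∃ w : Fin n → R, ∑ i, w i * v i = 1

theorem Rel.refl (v : Fin n → R) : Rel v v := fun i j => mul_comm _ _

theorem Rel.symm {v v' : Fin n → R} (h : Rel v v') : Rel v' v := fun i j => by
  rw [mul_comm, h j i, mul_comm]

/-- A vector proportional to a unimodular one is a multiple of it. -/
theorem Rel.eq_smul {r v : Fin n → R} (h : Rel r v) {w : Fin n → R} (hw : ∑ i, w i * v i = 1) :
    r = (∑ i, w i * r i) • v := by
  funext a
  rw [Pi.smul_apply, smul_eq_mul, Finset.sum_mul]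
  calc r a = r a * ∑ i, w i * v i := by rw [hw, mul_one]
    _ = ∑ i, w i * r i * v a := by
      rw [Finset.mul_sum]
      refine Finset.sum_congr rfl fun i _ => ?_
      rw [mul_assoc, ← h a i]; ring

theorem Rel.smul_left {v v' : Fin n → R} (c : R) (h : Rel v v') : Rel (c • v) v' := fun i j => by
  simp only [Pi.smul_apply, smul_eq_mul, mul_assoc, h i j]

theorem Rel.trans {r v v' : Fin n → R} (hv : IsUni v) (h : Rel r v) (h' : Rel v v') : Rel r v' := by
  obtain ⟨w, hw⟩ := hv
  rw [h.eq_smul hw]
  exact h'.smul_left _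

theorem rel_of_smul_eq {r v : Fin n → R} {c : R} (h : r = c • v) : Rel r v := h ▸ (Rel.refl v).smul_left c

theorem IsUni.map {S : Type*} [CommRing S] {F : Type*} [FunLike F R S] [RingHomClass F R S] (φ : F)
    {v : Fin n → R} (hv : IsUni v) : IsUni (φ ∘ v) := by
  obtain ⟨w, hw⟩ := hv
  refine ⟨φ ∘ w, ?_⟩
  simp only [Function.comp_apply, ← map_mul, ← map_sum, hw, map_one]

theorem Rel.map {S : Type*} [CommRing S] {F : Type*} [FunLike F R S] [RingHomClass F R S] (φ : F)
    {v v' : Fin n → R} (h : Rel v v') : Rel (φ ∘ v) (φ ∘ v') := fun i j => by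
  simp only [Function.comp_apply, ← map_mul, h i j]

theorem IsUni.vecMul {v : Fin n → R} (hv : IsUni v) (Y Z : Matrix (Fin n) (Fin n) R) (h : Y * Z = 1) :
    IsUni (v ᵥ* Y) := by
  obtain ⟨w, hw⟩ := hv
  refine ⟨Z *ᵥ w, ?_⟩
  show (Z *ᵥ w) ⬝ᵥ (v ᵥ* Y) = 1
  rw [dotProduct_comm, dotProduct_mulVec, vecMul_vecMul, h, vecMul_one, dotProduct_comm]
  exact hw

theorem Rel.vecMul {v v' : Fin n → R} (hv' : IsUni v') (h : Rel v v') (Y : Matrix (Fin n) (Fin n) R) :
    Rel (v ᵥ* Y) (v' ᵥ* Y) := by
  obtain ⟨w, hw⟩ := hv'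
  rw [h.eq_smul hw, smul_vecMul]
  exact (Rel.refl _).smul_left _

theorem IsUni.exists_ne_zero [Nontrivial R] {v : Fin n → R} (hv : IsUni v) : ∃ i, v i ≠ 0 := by
  obtain ⟨w, hw⟩ := hv
  by_contra! h
  simp [h] at hw

theorem IsUni.exists_isUnit [IsLocalRing R] {v : Fin n → R} (hv : IsUni v) : ∃ i, IsUnit (v i) := by
  obtain ⟨w, hw⟩ := hv
  by_contra! h
  have : ∑ i, w i * v i ∈ IsLocalRing.maximalIdeal R :=
    Ideal.sum_mem _ fun i _ => Ideal.mul_mem_left _ _ ((IsLocalRing.mem_maximalIdeal _).mpr (h i))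
  rw [hw] at this
  exact (IsLocalRing.maximalIdeal.isMaximal R).ne_top ((Ideal.eq_top_iff_one _).mpr this)

theorem isUni_of_isUnit {v : Fin n → R} {i : Fin n} (h : IsUnit (v i)) : IsUni v := by
  obtain ⟨u, hu⟩ := h
  refine ⟨Pi.single i ((u⁻¹ : Rˣ) : R), ?_⟩
  rw [Finset.sum_eq_single i (fun j _ hj => by simp [hj]) (by simp), Pi.single_eq_same, ← hu, Units.inv_mul]

/-- The matrices all of whose rows are proportional to `v`. -/
def rowIdeal (v : Fin n → R) : Submodule R (Matrix (Fin n) (Fin n) R) where
  carrier := {M | ∀ i, Rel (M i) v}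
  add_mem' {M N} hM hN i a b := by
    simp only [Matrix.add_apply, add_mul, hM i a b, hN i a b]
  zero_mem' i a b := by simp
  smul_mem' c M hM i a b := by
    simp only [Matrix.smul_apply, smul_eq_mul, mul_assoc, hM i a b]

theorem mem_rowIdeal {v : Fin n → R} {M : Matrix (Fin n) (Fin n) R} :
    M ∈ rowIdeal v ↔ ∀ i, Rel (M i) v := Iff.rfl

theorem mul_mem_rowIdeal {v : Fin n → R} (a : Matrix (Fin n) (Fin n) R) {M : Matrix (Fin n) (Fin n) R}
    (hM : M ∈ rowIdeal v) : a * M ∈ rowIdeal v := by
  intro i p q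
  simp only [Matrix.mul_apply, Finset.sum_mul, mul_assoc, hM _ p q]

theorem rowIdeal_eq_iff {v v' : Fin n → R} (hv : IsUni v) (hv' : IsUni v') :
    rowIdeal v = rowIdeal v' ↔ Rel v v' := by
  refine ⟨fun h => ?_, fun h => le_antisymm (fun M hM i => (hM i).trans hv h) (fun M hM i => (hM i).trans hv' h.symm)⟩
  intro a b
  have : (Matrix.of fun _ : Fin n => v) ∈ rowIdeal v := fun i => Rel.refl v
  exact (h ▸ this : (Matrix.of fun _ : Fin n => v) ∈ rowIdeal v') a a b

theorem mul_mem_rowIdeal_iff {v : Fin n → R} (hv : IsUni v) (Y Z : Matrix (Fin n) (Fin n) R) (h : Y * Z = 1)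
    (M : Matrix (Fin n) (Fin n) R) : M * Y ∈ rowIdeal (v ᵥ* Y) ↔ M ∈ rowIdeal v := by
  have h' : Z * Y = 1 := mul_eq_one_comm.mp h
  constructor
  · intro hM i
    have := (hM i).vecMul (hv.vecMul Y Z h) Z
    rwa [Matrix.mul_apply_eq_vecMul, vecMul_vecMul, vecMul_vecMul, h, vecMul_one, vecMul_one] at this
  · intro hM i
    rw [Matrix.mul_apply_eq_vecMul]
    exact (hM i).vecMul hv Y

/-- The quotient by the row ideal of a unimodular vector over a local ring is free of corank `n`. -/
theorem rowIdeal_quotient [IsLocalRing R] {v : Fin n → R} (hv : IsUni v) :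
    Module.Finite R (Matrix (Fin n) (Fin n) R ⧸ rowIdeal v) ∧
      Module.Free R (Matrix (Fin n) (Fin n) R ⧸ rowIdeal v) ∧
        Module.finrank R (Matrix (Fin n) (Fin n) R ⧸ rowIdeal v) = n * n - n := by
  obtain ⟨w, hw⟩ := hv
  let ret : Matrix (Fin n) (Fin n) R →ₗ[R] (Fin n → R) :=
    { toFun := fun M => M *ᵥ w
      map_add' := fun M N => Matrix.add_mulVec M N w
      map_smul' := fun c M => Matrix.smul_mulVec c M w }
  let inj : (Fin n → R) →ₗ[R] Matrix (Fin n) (Fin n) R :=
    { toFun := fun c => vecMulVec c v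
      map_add' := fun c d => Matrix.add_vecMulVec c d v
      map_smul' := fun r c => Matrix.smul_vecMulVec r c v }
  let pr : Matrix (Fin n) (Fin n) R →ₗ[R] Matrix (Fin n) (Fin n) R := LinearMap.id - inj.comp ret
  have hri : ∀ c, ret (inj c) = c := fun c => by
    funext i
    show (vecMulVec c v *ᵥ w) i = c i
    simp only [mulVec, dotProduct, vecMulVec_apply, mul_assoc, ← Finset.mul_sum]
    rw [show ∑ j, v j * w j = 1 by rw [← hw]; exact Finset.sum_congr rfl fun j _ => mul_comm _ _, mul_one]
  have hker : LinearMap.ker pr = rowIdeal v := by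
    ext M
    simp only [LinearMap.mem_ker, pr, LinearMap.sub_apply, LinearMap.id_apply, LinearMap.comp_apply, sub_eq_zero,
      mem_rowIdeal]
    constructor
    · intro h i
      refine rel_of_smul_eq (c := (M *ᵥ w) i) ?_
      funext j
      calc M i j = inj (ret M) i j := congrFun (congrFun h i) j
        _ = _ := rfl
    · intro h
      refine Matrix.ext fun i j => ?_
      show M i j = (M *ᵥ w) i * v j
      rw [congrFun ((h i).eq_smul hw) j]
      simp only [Pi.smul_apply, smul_eq_mul, mulVec, dotProduct]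
      exact congrArg (· * v j) (Finset.sum_congr rfl fun a _ => mul_comm _ _)
  have hrange : LinearMap.range pr = LinearMap.ker ret := by
    ext M
    constructor
    · rintro ⟨N, rfl⟩
      simp [pr, hri]
    · intro hM
      exact ⟨M, by simp [pr, LinearMap.mem_ker.mp hM]⟩
  let e : (Matrix (Fin n) (Fin n) R ⧸ rowIdeal v) ≃ₗ[R] LinearMap.ker ret :=
    (Submodule.quotEquivOfEq _ _ hker.symm).trans ((LinearMap.quotKerEquivRange pr).trans (LinearEquiv.ofEq _ _ hrange))
  haveI : Module.Finite R (LinearMap.ker ret) := Module.Finite.equiv e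
  haveI : Module.Projective R (LinearMap.ker ret) :=
    Module.Projective.of_split (LinearMap.ker ret).subtype
      ((LinearMap.id - inj.comp ret).codRestrict _ fun M => by simp [hri])
      (LinearMap.ext fun M => Subtype.ext (by simp [LinearMap.mem_ker.mp M.2]))
  haveI : Module.Free R (LinearMap.ker ret) := Module.free_of_flat_of_isLocalRing
  refine ⟨inferInstance, Module.Free.of_equiv e.symm, ?_⟩
  rw [e.finrank_eq]
  let E : Matrix (Fin n) (Fin n) R ≃ₗ[R] LinearMap.ker ret × (Fin n → R) :=
    { toFun := fun M => (⟨M - inj (ret M), by simp [hri]⟩, ret M)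
      map_add' := fun M N => by
        ext <;> simp <;> abel
      map_smul' := fun c M => by
        ext <;> simp [mul_sub]
      invFun := fun z => (z.1 : Matrix (Fin n) (Fin n) R) + inj z.2
      left_inv := fun M => by simp
      right_inv := fun z => by
        have := LinearMap.mem_ker.mp z.1.2
        ext <;> simp [hri, this] }
  have h := E.finrank_eq
  rw [Module.finrank_prod, Module.finrank_matrix, Module.finrank_self, Module.finrank_fin_fun, Fintype.card_fin] at h
  omega

/-- Left ideals with free quotient of rank `n * n - n` over a local ring are row ideals. -/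
theorem exists_rowIdeal [IsLocalRing R] (hn : 0 < n) (N : Submodule R (Matrix (Fin n) (Fin n) R))
    (hN : ∀ a, ∀ M ∈ N, a * M ∈ N) [Module.Projective R (Matrix (Fin n) (Fin n) R ⧸ N)]
    (hrk : Module.finrank R (Matrix (Fin n) (Fin n) R ⧸ N) = n * n - n) :
    ∃ v, IsUni v ∧ N = rowIdeal v := by
  classical
  let i0 : Fin n := ⟨0, hn⟩
  let emb : (Fin n → R) →ₗ[R] Matrix (Fin n) (Fin n) R :=
    { toFun := fun r => vecMulVec (Pi.single i0 1) r
      map_add' := fun r s => Matrix.vecMulVec_add _ r s
      map_smul' := fun c r => Matrix.vecMulVec_smul c _ r }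
  let L := N.comap emb
  have hmem : ∀ M, M ∈ N ↔ ∀ i, M i ∈ L := by
    intro M
    constructor
    · intro hM i
      show emb (M i) ∈ N
      convert hN (Matrix.single i0 i 1) M hM using 1
      refine Matrix.ext fun a b => ?_
      by_cases ha : a = i0
      · subst ha; simp [emb, vecMulVec_apply]
      · simp [emb, vecMulVec_apply, ha]
    · intro h
      have : M = ∑ i, Matrix.single i i0 1 * emb (M i) := by
        refine Matrix.ext fun a b => ?_
        rw [Matrix.sum_apply, Finset.sum_eq_single a (fun c _ hc => by simp [Ne.symm hc]) (by simp)]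
        simp [emb, vecMulVec_apply]
      rw [this]
      exact N.sum_mem fun i _ => hN _ _ (h i)
  let q : Matrix (Fin n) (Fin n) R →ₗ[R] (Fin n → (Fin n → R) ⧸ L) :=
    LinearMap.pi fun i => L.mkQ.comp (LinearMap.proj i)
  have hq : Function.Surjective q := fun z => by
    choose g hg using fun i => Submodule.mkQ_surjective L (z i)
    exact ⟨Matrix.of g, funext fun i => hg i⟩
  have hkq : N = LinearMap.ker q := by
    ext M
    rw [hmem, LinearMap.mem_ker, funext_iff]
    exact forall_congr' fun i => (Submodule.Quotient.mk_eq_zero L).symm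
  let e : (Matrix (Fin n) (Fin n) R ⧸ N) ≃ₗ[R] (Fin n → (Fin n → R) ⧸ L) :=
    (Submodule.quotEquivOfEq _ _ hkq).trans (q.quotKerEquivOfSurjective hq)
  haveI : Module.Projective R (Fin n → (Fin n → R) ⧸ L) := Module.Projective.of_equiv e
  haveI : Module.Projective R ((Fin n → R) ⧸ L) :=
    Module.Projective.of_split (LinearMap.single R (fun _ => (Fin n → R) ⧸ L) i0) (LinearMap.proj i0)
      (LinearMap.ext fun z => by simp)
  haveI : Module.Free R ((Fin n → R) ⧸ L) := Module.free_of_flat_of_isLocalRing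
  obtain ⟨s, hs⟩ := L.mkQ.exists_rightInverse_of_surjective (Submodule.range_mkQ L)
  have hs' : ∀ z, L.mkQ (s z) = z := LinearMap.congr_fun hs
  have hs'' : ∀ z, Submodule.Quotient.mk (p := L) (s z) = z := hs'
  let retr : (Fin n → R) →ₗ[R] L :=
    (LinearMap.id - s.comp L.mkQ).codRestrict L fun r => by
      rw [← Submodule.Quotient.mk_eq_zero, ← Submodule.mkQ_apply]
      simp [hs'']
  have hretr : ∀ l : L, retr l = l := fun l => by
    refine Subtype.ext ?_
    simp [retr, (Submodule.Quotient.mk_eq_zero L).mpr l.2]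
  haveI : Module.Finite R L := Module.Finite.of_surjective retr fun l => ⟨l, hretr l⟩
  haveI : Module.Projective R L := Module.Projective.of_split L.subtype retr (LinearMap.ext hretr)
  haveI : Module.Free R L := Module.free_of_flat_of_isLocalRing
  have hE : Module.finrank R (Fin n → R) = Module.finrank R L + Module.finrank R ((Fin n → R) ⧸ L) := by
    rw [← Module.finrank_prod]
    refine LinearEquiv.finrank_eq
      { toFun := fun r => (retr r, L.mkQ r)
        map_add' := fun r r' => by simp
        map_smul' := fun c r => by simp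
        invFun := fun z => (z.1 : Fin n → R) + s z.2
        left_inv := fun r => by simp [retr]
        right_inv := fun z => ?_ }
    have h0 : L.mkQ (z.1 : Fin n → R) = 0 := (Submodule.Quotient.mk_eq_zero L).mpr z.1.2
    refine Prod.ext (Subtype.ext ?_) ?_
    · simp only [retr, LinearMap.codRestrict_apply, LinearMap.sub_apply, LinearMap.id_apply, LinearMap.comp_apply,
        map_add, h0, hs', zero_add, sub_self, add_sub_cancel_right]
      have h3 : Submodule.Quotient.mk (p := L) (z.1 : Fin n → R) = 0 := h0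
      simp [h3, hs'']
    · show L.mkQ _ = _
      rw [map_add, h0, hs', zero_add]
  have hQ : n * Module.finrank R ((Fin n → R) ⧸ L) = n * n - n := by
    rw [← hrk, e.finrank_eq, Module.finrank_pi_fintype, Finset.sum_const, Finset.card_univ, Fintype.card_fin,
      smul_eq_mul]
  have hL1 : Module.finrank R L = 1 := by
    rw [Module.finrank_fin_fun] at hE
    have : n * n - n = n * (n - 1) := by rw [Nat.mul_sub, mul_one]
    have := Nat.eq_of_mul_eq_mul_left hn (hQ.trans this)
    omega
  let b := Module.finBasisOfFinrankEq R L hL1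
  let v : Fin n → R := (b 0 : L)
  have hv : IsUni v := by
    refine ⟨fun i => b.repr (retr (Pi.single i 1)) 0, ?_⟩
    have h1 : b.repr (retr v) 0 = 1 := by
      simp only [v, hretr]; simp
    refine Eq.trans ?_ h1
    conv_rhs => rw [show v = ∑ i, v i • Pi.single i (1 : R) from (pi_eq_sum_univ' v)]
    simp only [map_sum, map_smul, Finsupp.coe_finsetSum, Finset.sum_apply, Finsupp.smul_apply, smul_eq_mul]
    exact Finset.sum_congr rfl fun i _ => mul_comm _ _
  refine ⟨v, hv, ?_⟩
  ext M
  rw [hmem, mem_rowIdeal]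
  refine forall_congr' fun i => ⟨fun h => ?_, fun h => ?_⟩
  · refine rel_of_smul_eq (c := b.repr ⟨M i, h⟩ 0) ?_
    have := congrArg Subtype.val (b.sum_repr ⟨M i, h⟩)
    rw [Fin.sum_univ_one] at this
    exact this.symm
  · obtain ⟨w, hw⟩ := hv
    rw [h.eq_smul hw]
    exact L.smul_mem _ (b 0).2

end Groth.Agent.SBAut
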